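import Cfsg.Agent.H651.NilPair
set_option linter.all false

/-!
# Brauer pairs of a block of `C_G(Q)` and Brauer pairs of `G` above `(Q, f)` (helper651)

For a subgroup `R` of `C_G(Q)`, `locSub Q R = Q R` as a subgroup of `G`, with
`C_{C_G(Q)}(R) ≃* C_G(Q R)` (`locIso`); a Brauer pair `(R, h)` of the block `f` of `C_G(Q)` gives the
pair `(Q R, locBlk Q R h)` of `G` which lies normally above `(Q, f)`.
-/

set_option autoImplicit false

open Cfsg

namespace Cfsg.Agent.H651

open Cfsg.Agent.H649

universe u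

variable {G : Type u} [Group G] {p : ℕ} {M : Ideal AlgInt}

/-- `Q R` as a subgroup of `G`, for a subgroup `R` of `C_G(Q)`. -/
def locSub (Q : Subgroup G) (R : Subgroup (Subgroup.centralizer (Q : Set G))) : Subgroup G :=
  Q ⊔ R.map (Subgroup.centralizer (Q : Set G)).subtype

theorem le_locSub (Q : Subgroup G) (R : Subgroup (Subgroup.centralizer (Q : Set G))) :
    Q ≤ locSub Q R := le_sup_left

theorem coe_mem_locSub {Q : Subgroup G} {R : Subgroup (Subgroup.centralizer (Q : Set G))}
    {r : Subgroup.centralizer (Q : Set G)} (h : r ∈ R) : (r : G) ∈ locSub Q R :=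
  (le_sup_right : _ ≤ locSub Q R) ⟨r, h, rfl⟩

theorem mem_centralizer_locSub_iff {Q : Subgroup G}
    {R : Subgroup (Subgroup.centralizer (Q : Set G))} (x : Subgroup.centralizer (Q : Set G)) :
    (x : G) ∈ Subgroup.centralizer ((locSub Q R : Subgroup G) : Set G) ↔
      x ∈ Subgroup.centralizer (R : Set (Subgroup.centralizer (Q : Set G))) := by
  constructor
  · intro h
    rw [Subgroup.mem_centralizer_iff] at h ⊢
    intro r hr
    exact Subtype.ext (h r (coe_mem_locSub hr))
  · intro h
    have h1 : locSub Q R ≤ Subgroup.centralizer ({(x : G)} : Set G) := by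
      refine sup_le ?_ ?_
      · intro q hq
        rw [Subgroup.mem_centralizer_iff]
        rintro _ rfl
        exact (Subgroup.mem_centralizer_iff.1 x.2 q hq).symm
      · rintro _ ⟨r, hr, rfl⟩
        rw [Subgroup.mem_centralizer_iff]
        rintro _ rfl
        exact (congrArg Subtype.val (Subgroup.mem_centralizer_iff.1 h r hr)).symm
    rw [Subgroup.mem_centralizer_iff]
    intro y hy
    exact (Subgroup.mem_centralizer_iff.1 (h1 hy) x rfl).symm

/-- `C_{C_G(Q)}(R) ≃* C_G(Q R)`. -/
def locIso (Q : Subgroup G) (R : Subgroup (Subgroup.centralizer (Q : Set G))) :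
    Subgroup.centralizer (R : Set (Subgroup.centralizer (Q : Set G))) ≃*
      Subgroup.centralizer ((locSub Q R : Subgroup G) : Set G) where
  toFun c := ⟨((c : Subgroup.centralizer (Q : Set G)) : G),
    (mem_centralizer_locSub_iff _).2 c.2⟩
  invFun c := ⟨⟨(c : G), Subgroup.centralizer_le (le_locSub Q R) c.2⟩,
    (mem_centralizer_locSub_iff (Q := Q) (R := R)
      ⟨(c : G), Subgroup.centralizer_le (le_locSub Q R) c.2⟩).1 c.2⟩
  left_inv _ := rfl
  right_inv _ := rfl
  map_mul' _ _ := rfl

theorem locIso_coe (Q : Subgroup G) (R : Subgroup (Subgroup.centralizer (Q : Set G)))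
    (c : Subgroup.centralizer (R : Set (Subgroup.centralizer (Q : Set G)))) :
    ((locIso Q R c : Subgroup.centralizer ((locSub Q R : Subgroup G) : Set G)) : G) =
      ((c : Subgroup.centralizer (Q : Set G)) : G) := rfl

theorem locIso_symm_coe (Q : Subgroup G) (R : Subgroup (Subgroup.centralizer (Q : Set G)))
    (c : Subgroup.centralizer ((locSub Q R : Subgroup G) : Set G)) :
    ((((locIso Q R).symm c : Subgroup.centralizer
      (R : Set (Subgroup.centralizer (Q : Set G)))) : Subgroup.centralizer (Q : Set G)) : G) =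
      c := rfl

/-- The block of `C_G(Q R)` corresponding to a block of `C_{C_G(Q)}(R)`. -/
def locBlk (Q : Subgroup G) (R : Subgroup (Subgroup.centralizer (Q : Set G)))
    (h : Set (IrrCharacter (Subgroup.centralizer (R : Set (Subgroup.centralizer (Q : Set G)))))) :
    Set (IrrCharacter (Subgroup.centralizer ((locSub Q R : Subgroup G) : Set G))) :=
  blkMap (locIso Q R) h

theorem isPGroup_map_subtype {L : Subgroup G} {R : Subgroup L} (hR : IsPGroup p R) :
    IsPGroup p (R.map L.subtype) := hR.map _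

theorem isPGroup_locSub {Q : Subgroup G} {R : Subgroup (Subgroup.centralizer (Q : Set G))}
    (hQ : IsPGroup p Q) (hR : IsPGroup p R) : IsPGroup p (locSub Q R) := by
  have h1 := isPGroup_map_subtype hR
  have h2 : R.map (Subgroup.centralizer (Q : Set G)).subtype ≤
      Subgroup.normalizer (Q : Set G) := by
    rintro _ ⟨r, -, rfl⟩
    exact Subgroup.centralizer_le_normalizer _ r.2
  exact hQ.to_sup_of_normal_left' h1 h2

theorem locSub_le_normalizer (Q : Subgroup G)
    (R : Subgroup (Subgroup.centralizer (Q : Set G))) :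
    locSub Q R ≤ Subgroup.normalizer (Q : Set G) := by
  refine sup_le Subgroup.le_normalizer ?_
  rintro _ ⟨r, -, rfl⟩
  exact Subgroup.centralizer_le_normalizer _ r.2

/-- An element of the subgroup `K` stabilizes every set of characters of `K`. -/
theorem stabilizesBlock_of_mem {K : Subgroup G} (f : Set (IrrCharacter K)) {x : G} (hx : x ∈ K) :
    StabilizesBlock K f x := by
  refine ⟨Subgroup.le_normalizer hx, fun χ hχ => ⟨χ, hχ, fun k k' hk => ?_⟩⟩
  have h1 : k' = (⟨x, hx⟩ : K) * k * (⟨x, hx⟩ : K)⁻¹ := Subtype.ext hk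
  rw [h1]
  exact Cfsg.Agent.Blocks.Basic.irr_conj χ.2 k ⟨x, hx⟩

/-- An element of `Q` stabilizes every set of characters of `C_G(Q)`. -/
theorem stabilizesBlock_of_mem_left {Q : Subgroup G}
    (f : Set (IrrCharacter (Subgroup.centralizer (Q : Set G)))) {x : G} (hx : x ∈ Q) :
    StabilizesBlock (Subgroup.centralizer (Q : Set G)) f x := by
  refine ⟨mem_normalizer_centralizer (Subgroup.le_normalizer hx),
    fun χ hχ => ⟨χ, hχ, fun k k' hk => ?_⟩⟩
  have h1 : k' = k := by
    apply Subtype.ext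
    rw [hk, Subgroup.mem_centralizer_iff.1 k.2 x hx]
    group
  rw [h1]

theorem centralizer_le_idxStab [M.IsPrime] {Q : Subgroup G}
    {f : Set (IrrCharacter (Subgroup.centralizer (Q : Set G)))} (hf : IsPBlock M f) :
    Subgroup.centralizer (Q : Set G) ≤ idxStab ⟨Q, f⟩ := fun x hx =>
  (conjIdx_eq_iff hf x).2 ⟨Subgroup.centralizer_le_normalizer _ hx, stabilizesBlock_of_mem f hx⟩

theorem le_idxStab [M.IsPrime] {Q : Subgroup G}
    {f : Set (IrrCharacter (Subgroup.centralizer (Q : Set G)))} (hf : IsPBlock M f) :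
    Q ≤ idxStab ⟨Q, f⟩ := fun x hx =>
  (conjIdx_eq_iff hf x).2 ⟨Subgroup.le_normalizer hx, stabilizesBlock_of_mem_left f hx⟩

theorem locSub_le_idxStab [M.IsPrime] {Q : Subgroup G}
    {f : Set (IrrCharacter (Subgroup.centralizer (Q : Set G)))} (hf : IsPBlock M f)
    (R : Subgroup (Subgroup.centralizer (Q : Set G))) : locSub Q R ≤ idxStab ⟨Q, f⟩ := by
  refine sup_le (le_idxStab hf) ?_
  rintro _ ⟨r, -, rfl⟩
  exact centralizer_le_idxStab hf r.2

theorem brauerOmega_locBlk (Q : Subgroup G) (R : Subgroup (Subgroup.centralizer (Q : Set G)))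
    (f : Set (IrrCharacter (Subgroup.centralizer (Q : Set G))))
    (ξ : IrrCharacter (Subgroup.centralizer (R : Set (Subgroup.centralizer (Q : Set G))))) :
    brauerOmega (locSub Q R) (subgroupBlockCoeff (Subgroup.centralizer (Q : Set G)) f)
      (irrMap (locIso Q R) ξ : _ → ℂ) = brauerOmega R (blockCoeff f) (ξ : _ → ℂ) := by
  rw [brauerOmega, brauerOmega]
  refine (finsum_eq_of_bijective (locIso Q R) (locIso Q R).bijective fun x => ?_).symm
  rw [irrMap_apply', irrMap_one, locIso_coe, subgroupBlockCoeff_coe]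

/-- A Brauer pair `(R, h)` of the block `f` of `C_G(Q)` gives the pair `(Q R, h)` of `G` normally
above `(Q, f)`, and conversely. -/
theorem isNormalSubpair_locBlk_iff [M.IsPrime] {Q : Subgroup G} (hQ : IsPGroup p Q)
    {f : Set (IrrCharacter (Subgroup.centralizer (Q : Set G)))} (hf : IsPBlock M f)
    {R : Subgroup (Subgroup.centralizer (Q : Set G))} (hR : IsPGroup p R)
    {h : Set (IrrCharacter (Subgroup.centralizer
      (R : Set (Subgroup.centralizer (Q : Set G)))))} :
    IsNormalSubpair p M Q f (locSub Q R) (locBlk Q R h) ↔ IsBrauerPairOf p M f R h := by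
  constructor
  · rintro ⟨-, ⟨-, h2⟩, -, -, -, h6⟩
    refine ⟨⟨hR, isPBlock_blkMap_iff.1 h2⟩, hf, fun ξ hξ => ?_⟩
    have h7 := h6 (irrMap (locIso Q R) ξ) (irrMap_mem_blkMap.2 hξ)
    rwa [brauerOmega_locBlk] at h7
  · rintro ⟨⟨-, h2⟩, -, h4⟩
    refine ⟨⟨hQ, hf⟩, ⟨isPGroup_locSub hQ hR, isPBlock_blkMap h2⟩, le_locSub Q R,
      locSub_le_normalizer Q R, fun x hx => ?_, ?_⟩
    · exact ((conjIdx_eq_iff hf x).1 (locSub_le_idxStab hf R hx)).2
    · rintro _ ⟨ξ, hξ, rfl⟩
      rw [brauerOmega_locBlk]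
      exact h4 ξ hξ

theorem mem_normalizer_locSub {Q : Subgroup G}
    {R : Subgroup (Subgroup.centralizer (Q : Set G))} {x : Subgroup.centralizer (Q : Set G)}
    (hx : x ∈ Subgroup.normalizer (R : Set (Subgroup.centralizer (Q : Set G)))) :
    (x : G) ∈ Subgroup.normalizer ((locSub Q R : Subgroup G) : Set G) := by
  rw [mem_normalizer_iff_map_conj, locSub, Subgroup.map_sup]
  have h1 : Q.map (MulAut.conj (x : G)).toMonoidHom = Q :=
    (mem_normalizer_iff_map_conj Q x).1 (Subgroup.centralizer_le_normalizer _ x.2)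
  have h2 : (R.map (Subgroup.centralizer (Q : Set G)).subtype).map
      (MulAut.conj (x : G)).toMonoidHom = R.map (Subgroup.centralizer (Q : Set G)).subtype := by
    have h3 := (mem_normalizer_iff_map_conj R x).1 hx
    conv_rhs => rw [← h3]
    rw [Subgroup.map_map, Subgroup.map_map]
    rfl
  rw [h1, h2]

/-- An element of `C_G(Q)` fixing the pair `(R, h)` of `C_G(Q)` fixes the pair `(Q R, h)` of `G`. -/
theorem conjIdx_locBlk [M.IsPrime] {Q : Subgroup G}
    {R : Subgroup (Subgroup.centralizer (Q : Set G))}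
    {h : Set (IrrCharacter (Subgroup.centralizer
      (R : Set (Subgroup.centralizer (Q : Set G)))))} (hh : IsPBlock M h)
    {x : Subgroup.centralizer (Q : Set G)} (hx : conjIdx x ⟨R, h⟩ = ⟨R, h⟩) :
    conjIdx (x : G) ⟨locSub Q R, locBlk Q R h⟩ = ⟨locSub Q R, locBlk Q R h⟩ := by
  obtain ⟨h1, -, h2⟩ := (conjIdx_eq_iff hh x).1 hx
  have h3 : IsPBlock M (locBlk Q R h) := isPBlock_blkMap hh
  refine (conjIdx_eq_iff h3 (x : G)).2 ⟨mem_normalizer_locSub h1,
    mem_normalizer_centralizer (mem_normalizer_locSub h1), ?_⟩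
  rintro _ ⟨χ, hχ, rfl⟩
  obtain ⟨χ', hχ', h4⟩ := h2 χ hχ
  refine ⟨irrMap (locIso Q R) χ', irrMap_mem_blkMap.2 hχ', fun k k' hk => ?_⟩
  rw [irrMap_apply, irrMap_apply]
  apply h4
  apply Subtype.ext
  exact hk

/-- The blocks of the Brauer pairs of a nilpotent block are nilpotent. -/
theorem isNilpotentBlock_of_pair [M.IsPrime] {B : Set (IrrCharacter G)}
    (hnil : IsNilpotentBlock p M B) {Q : Subgroup G}
    {f : Set (IrrCharacter (Subgroup.centralizer (Q : Set G)))}
    (hQf : IsBrauerPairOf p M B Q f)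
    (hup : ∀ (T : Subgroup G) (e : Set (IrrCharacter (Subgroup.centralizer (T : Set G)))),
      IsNormalSubpair p M Q f T e → IsBrauerPairOf p M B T e) :
    IsNilpotentBlock p M f := by
  rw [isNilpotentBlock_iff] at hnil ⊢
  refine ⟨hQf.1.2, fun R h hRh x hx hreg => ?_⟩
  have h1 := (isNormalSubpair_locBlk_iff hQf.1.1 hQf.1.2 hRh.1.1).2 hRh
  have h2 := hup _ _ h1
  have h3 := conjIdx_locBlk hRh.1.2 hx
  have hreg' : IsPRegular p (x : G) := by
    rw [IsPRegular, Subgroup.orderOf_coe]
    exact hreg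
  exact (mem_centralizer_locSub_iff x).1 (hnil.2 _ _ h2 _ h3 hreg')

end Cfsg.Agent.H651
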