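import Cfsg.Agent.H651.StarDef
import Cfsg.Agent.H644.Uniq
import Cfsg.Agent.Blocks.BlockIdem
import Cfsg.Agent.Characters.Brauer
import Cfsg.Agent.H651.StarTrace
import Cfsg.Agent.Lib.NilpotentCoprime
import Cfsg.Agent.H644.ConjMax
set_option linter.all false

-- part: H651/StarCong
section
/-!
# Block idempotents and the Brauer map in terms of coefficients (helper651)

* `conv_cfE`, `conv_cfE_of_ne`: the functions `cfE b` are orthogonal idempotents for convolution;
* `cfE_congr`: for a Brauer pair `(Q, f)` stable under the `p`-group `S ≥ Q`, on `C_G(S)` the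
  coefficients of the idempotent of `f` are congruent to the sum of those of the blocks of `C_G(S)`
  above `(Q, f)`.
-/

set_option autoImplicit false
set_option linter.unusedSectionVars false
set_option linter.unusedVariables false

open Cfsg

namespace Cfsg.Agent.H651

open Cfsg.Agent.H649

section conv

variable {H : Type*} [Group H] [Fintype H]

open Cfsg.Agent.Blocks.ConvCentral in
theorem conv_blockCoeff_of_disjoint {A B : Set (IrrCharacter H)} (hAB : Disjoint A B) (g : H) :
    ∑ x, blockCoeff A x * blockCoeff B (x⁻¹ * g) = 0 := by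
  classical
  have hcA := Blocks.BlockIdem.isClassFunction_blockCoeff (G := H) A
  have hcB := Blocks.BlockIdem.isClassFunction_blockCoeff (G := H) B
  have h : conv (blockCoeff A) (blockCoeff B) = 0 := by
    refine Blocks.BlockIdem.eq_zero_of_lin (isClassFunction_conv hcA hcB) fun χ => ?_
    have h1 := lin_conv χ.2 (f := blockCoeff A) (f' := blockCoeff B) hcA
    have hχ1 := irr_one_ne_zero χ.2
    rw [Blocks.BlockIdem.lin_blockCoeff, Blocks.BlockIdem.lin_blockCoeff] at h1
    by_cases hχ : χ ∈ A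
    · rw [if_neg (Set.disjoint_left.1 hAB hχ), mul_zero] at h1
      exact (mul_eq_zero.1 h1).resolve_right hχ1
    · rw [if_neg hχ, zero_mul] at h1
      exact (mul_eq_zero.1 h1).resolve_right hχ1
  have h2 := congrFun h g
  rwa [conv_apply] at h2

open Cfsg.Agent.Blocks.ConvCentral in
theorem conv_blockCoeff (A : Set (IrrCharacter H)) (g : H) :
    ∑ x, blockCoeff A x * blockCoeff A (x⁻¹ * g) = blockCoeff A g := by
  have h2 := congrFun (Blocks.BlockIdem.conv_blockCoeff_self (G := H) A) g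
  rwa [conv_apply] at h2

end conv

universe u

variable {G : Type u} [Group G]

theorem sum_cfE_mul [Fintype G] (Q : Subgroup G)
    (f f' : Set (IrrCharacter (Subgroup.centralizer (Q : Set G)))) {g : G}
    (hg : g ∈ Subgroup.centralizer (Q : Set G))
    [Fintype (Subgroup.centralizer (Q : Set G))] :
    ∑ x : G, cfE ⟨Q, f⟩ x * cfE ⟨Q, f'⟩ (x⁻¹ * g) =
      ∑ x : Subgroup.centralizer (Q : Set G), blockCoeff f x * blockCoeff f' (x⁻¹ * ⟨g, hg⟩) := by
  classical
  refine (Finset.sum_of_injOn (fun k : Subgroup.centralizer (Q : Set G) => (k : G))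
    (Subtype.val_injective.injOn) (fun _ _ => Finset.mem_coe.2 (Finset.mem_univ _)) ?_ ?_).symm
  · intro k _ hk
    rw [cfE_of_notMem (⟨Q, f⟩ : BrauerPairIdx G)
      (fun h => hk ⟨⟨k, h⟩, Finset.mem_coe.2 (Finset.mem_univ _), rfl⟩), zero_mul]
  · intro k _
    have h1 := cfE_coe (⟨Q, f⟩ : BrauerPairIdx G) k
    have h2 := cfE_coe (⟨Q, f'⟩ : BrauerPairIdx G) (k⁻¹ * ⟨g, hg⟩)
    rw [h1]
    change _ = _ * cfE ⟨Q, f'⟩ (((k⁻¹ * ⟨g, hg⟩ : Subgroup.centralizer (Q : Set G)) : G))
    rw [h2]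

theorem sum_cfE_mul_of_notMem [Fintype G] (Q : Subgroup G)
    (f f' : Set (IrrCharacter (Subgroup.centralizer (Q : Set G)))) {g : G}
    (hg : g ∉ Subgroup.centralizer (Q : Set G)) :
    ∑ x : G, cfE ⟨Q, f⟩ x * cfE ⟨Q, f'⟩ (x⁻¹ * g) = 0 := by
  refine Finset.sum_eq_zero fun x _ => ?_
  by_cases hx : x ∈ Subgroup.centralizer (Q : Set G)
  · rw [cfE_of_notMem (⟨Q, f'⟩ : BrauerPairIdx G) (g := x⁻¹ * g), mul_zero]
    intro h
    apply hg
    have h1 := Subgroup.mul_mem _ hx h
    rwa [mul_inv_cancel_left] at h1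
  · rw [cfE_of_notMem (⟨Q, f⟩ : BrauerPairIdx G) hx, zero_mul]

/-- `ê ê = ê`. -/
theorem conv_cfE [Fintype G] (b : BrauerPairIdx G) (g : G) :
    ∑ x : G, cfE b x * cfE b (x⁻¹ * g) = cfE b g := by
  classical
  obtain ⟨Q, f⟩ := b
  by_cases hg : g ∈ Subgroup.centralizer (Q : Set G)
  · rw [sum_cfE_mul Q f f hg, conv_blockCoeff, ← cfE_of_mem (⟨Q, f⟩ : BrauerPairIdx G) hg]
  · rw [sum_cfE_mul_of_notMem Q f f hg, cfE_of_notMem (⟨Q, f⟩ : BrauerPairIdx G) hg]

/-- `ê ê' = 0` for different blocks of the same centralizer. -/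
theorem conv_cfE_of_ne [Fintype G] {M : Ideal AlgInt} [M.IsPrime] {b b' : BrauerPairIdx G}
    (hb : IsPBlock M b.2) (hb' : IsPBlock M b'.2) (h : b.1 = b'.1) (hne : b ≠ b') (g : G) :
    ∑ x : G, cfE b x * cfE b' (x⁻¹ * g) = 0 := by
  classical
  obtain ⟨Q, f⟩ := b
  obtain ⟨Q', f'⟩ := b'
  obtain rfl : Q = Q' := h
  have hdis : Disjoint f f' := by
    rw [Set.disjoint_left]
    intro χ h1 h2
    apply hne
    have h3 : f = f' := Blocks.Basic.isPBlock_eq_of_mem hb hb' h1 h2
    rw [h3]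
  by_cases hg : g ∈ Subgroup.centralizer (Q : Set G)
  · rw [sum_cfE_mul Q f f' hg, conv_blockCoeff_of_disjoint hdis]
  · rw [sum_cfE_mul_of_notMem Q f f' hg]

section cong

variable {p : ℕ} {M : Ideal AlgInt} [M.IsPrime] [Finite G]

open Cfsg.Agent.H644 Cfsg.Agent.Blocks.Local

theorem memLocalRing_cfE (hM : IsPModular p M) {b : BrauerPairIdx G} (hb : IsPBlock M b.2)
    (g : G) : MemLocalRing M (cfE b g) :=
  memLocalRing_subgroupBlockCoeff hM (isUnion_of_isPBlock hb) g

theorem redC_cfE (b : BrauerPairIdx G) (g : G) :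
    redC M (cfE b g) = (emb _ (idem M b.2)).coeff g := by
  rw [← toK_subgroupBlockCoeff]
  rfl

theorem isInv_of_conjIdx (hM : IsPModular p M) {Q S : Subgroup G}
    {f : Set (IrrCharacter (Subgroup.centralizer (Q : Set G)))} (hf : IsPBlock M f)
    (hst : ∀ x ∈ S, conjIdx x ⟨Q, f⟩ = ⟨Q, f⟩) :
    S ≤ Subgroup.normalizer (Q : Set G) ∧ IsInv S (emb _ (idem M f)) := by
  have h1 : S ≤ Subgroup.normalizer (Q : Set G) := fun x hx =>
    ((conjIdx_eq_iff hf x).1 (hst x hx)).1
  refine ⟨h1, (forall_stabilizesBlock_iff hM h1 hf).1 fun x hx => ?_⟩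
  exact ((conjIdx_eq_iff hf x).1 (hst x hx)).2

theorem leIdx_iff_lam (hM : IsPModular p M) {Q S : Subgroup G}
    {f : Set (IrrCharacter (Subgroup.centralizer (Q : Set G)))} (hQf : IsBrauerPair p M Q f)
    (hS : IsPGroup p S) (hQS : Q ≤ S) (hst : ∀ x ∈ S, conjIdx x ⟨Q, f⟩ = ⟨Q, f⟩)
    {e : Set (IrrCharacter (Subgroup.centralizer (S : Set G)))} (he : IsPBlock M e) :
    LEIdx p M ⟨Q, f⟩ ⟨S, e⟩ ↔
      ∀ ξ ∈ e, lam M (ξ : Subgroup.centralizer (S : Set G) → ℂ) (br S (emb _ (idem M f))) = 1 := by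
  obtain ⟨hSN, hinv⟩ := isInv_of_conjIdx hM hQf.2 hst
  constructor
  · intro h
    have h1 : SubpairLE p M Q f S e := leIdx_iff.1 h
    have h2 := isNormalSubpair_of_subpairLE hM ⟨hS, he⟩ h1 hSN
    exact ((isNormalSubpair_iff hM).1 h2).2.2.2.2.2
  · intro h
    refine leIdx_iff.2 (subpairLE_of_isNormalSubpair ?_)
    exact (isNormalSubpair_iff hM).2 ⟨hQf, ⟨hS, he⟩, hQS, hSN, hinv, h⟩

/-- The congruence. -/
theorem cfE_congr (hM : IsPModular p M) {Q S : Subgroup G}
    {f : Set (IrrCharacter (Subgroup.centralizer (Q : Set G)))} (hQf : IsBrauerPair p M Q f)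
    (hS : IsPGroup p S) (hQS : Q ≤ S) (hst : ∀ x ∈ S, conjIdx x ⟨Q, f⟩ = ⟨Q, f⟩)
    (s : Finset (BrauerPairIdx G))
    (hs : ∀ b, b ∈ s ↔ b.1 = S ∧ IsPBlock M b.2 ∧ LEIdx p M ⟨Q, f⟩ b) {g : G}
    (hg : g ∈ Subgroup.centralizer (S : Set G)) :
    MemLocalIdeal M (cfE ⟨Q, f⟩ g - ∑ b ∈ s, cfE b g) := by
  classical
  have : Fact p.Prime := ⟨hM.1⟩
  have := charP_resField hM
  obtain ⟨hSN, hinv⟩ := isInv_of_conjIdx hM hQf.2 hst
  have hU := isUnion_of_isPBlock hQf.2
  have hRs : ∀ b ∈ s, MemLocalRing M (cfE b g) := fun b hb =>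
    memLocalRing_cfE hM ((hs b).1 hb).2.1 g
  rw [← redC_eq_iff (memLocalRing_cfE hM (b := ⟨Q, f⟩) hQf.2 g) (memLocalRing_sum hRs),
    redC_sum hRs, redC_cfE]
  set x := br S (emb _ (idem M f)) with hx
  have hxcls : IsCls x := isCls_br_emb hQS (isCls_idem _)
  have hxx : x * x = x := by
    rw [hx, ← br_mul (p := p) hS hinv hinv, mul_idem_emb _ hM hU]
  have hfin : Fintype (Blk M (Subgroup.centralizer (S : Set G))) := Fintype.ofFinite _
  have h1 : (emb _ (idem M f)).coeff g = x.coeff ⟨g, hg⟩ := by rw [hx, coeff_br]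
  change (emb _ (idem M f)).coeff g = _
  rw [h1, eq_sum_mul_idem hM x]
  have h2 : ∀ B : Blk M (Subgroup.centralizer (S : Set G)), x * idem M B.1 =
      if (⟨S, B.1⟩ : BrauerPairIdx G) ∈ s then idem M B.1 else 0 := by
    intro B
    have hBU := isUnion_of_isPBlock B.2
    obtain ⟨ξ, hξ⟩ := Blocks.Basic.isPBlock_nonempty B.2
    by_cases hB : (⟨S, B.1⟩ : BrauerPairIdx G) ∈ s
    · rw [if_pos hB]
      refine mul_idem_of_lam_eq_one hM hxcls hxx hBU ?_
      exact (leIdx_iff_lam hM hQf hS hQS hst B.2).1 ((hs _).1 hB).2.2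
    · rw [if_neg hB]
      refine mul_idem_of_lam_eq_zero hM hxcls hxx hBU ?_
      have h3 : ¬ ∀ ξ ∈ B.1, lam M (ξ : Subgroup.centralizer (S : Set G) → ℂ) x = 1 := by
        intro h
        exact hB ((hs _).2 ⟨rfl, B.2, (leIdx_iff_lam hM hQf hS hQS hst B.2).2 h⟩)
      refine (forall_lam_iff B.2 hξ _ _).2 ?_
      rcases lam_idempotent ξ hxcls hxx with h | h
      · exact h
      · exact absurd ((forall_lam_iff B.2 hξ _ _).2 h) h3
  have h4 : ∑ B : Blk M (Subgroup.centralizer (S : Set G)), x * idem M B.1 =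
      ∑ B ∈ Finset.univ.filter (fun B : Blk M (Subgroup.centralizer (S : Set G)) =>
        (⟨S, B.1⟩ : BrauerPairIdx G) ∈ s), idem M B.1 := by
    rw [Finset.sum_congr rfl fun B _ => h2 B, Finset.sum_filter]
  rw [h4, MonoidAlgebra.coeff_sum, Finsupp.finsetSum_apply]
  refine Finset.sum_bij (fun B _ => (⟨S, B.1⟩ : BrauerPairIdx G)) ?_ ?_ ?_ ?_
  · intro B hB
    exact (Finset.mem_filter.1 hB).2
  · intro B _ B' _ h
    exact Subtype.ext (eq_of_heq (Sigma.mk.inj h).2)
  · rintro ⟨S', e⟩ hb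
    obtain ⟨rfl, he, -⟩ := (hs _).1 hb
    exact ⟨⟨e, he⟩, Finset.mem_filter.2 ⟨Finset.mem_univ _, hb⟩, rfl⟩
  · intro B _
    rw [redC_cfE, coeff_emb_of_mem _ hg]

end cong

end Cfsg.Agent.H651
end

-- part: H651/StarComb
section
/-!
# A Möbius inversion argument over "pairs" for a finite group (helper651)

`PairSys Q 𝒫`: a set `𝒫` of "pairs" `π` with subgroups `T π` of the finite group `Q`, on which `Q`
acts, with an order for which every pair restricts uniquely to every subgroup of `T π`.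
The main result `mem_closure` says that if an invariant function `D : 𝒫 → V` satisfies the congruences
`∑ g ∈ N_ρ, ∑ π ≥ ρ, T π = T ρ ⟨g⟩, D π ∈ |N_ρ| X` and `c π` are compatible generalized characters of
`T π`, then `z ↦ ∑ T π = ⟨z⟩, c π z • D π` is an integral combination of products of generalized
characters of `Q` and elements of `X`.
-/

set_option autoImplicit false
set_option linter.unusedSectionVars false
set_option linter.unusedVariables false

open Cfsg

namespace Cfsg.Agent.H651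

section orbit

variable {Q : Type*} [Group Q] [Fintype Q] {P : Type*} [Fintype P] [MulAction Q P]
variable {V : Type*} [AddCommGroup V] [Module ℂ V]

open scoped Classical in
theorem card_stab_smul_sum_orbit (h : P → V) (a : P) :
    (Nat.card (MulAction.stabilizer Q a) : ℂ) •
      ∑ b ∈ Finset.univ.filter (fun b => b ∈ MulAction.orbit Q a), h b = ∑ g : Q, h (g • a) := by
  have h1 : ∑ g : Q, h (g • a) = ∑ b : P, ∑ g ∈ Finset.univ.filter (fun g : Q => g • a = b),
      h (g • a) := (Finset.sum_fiberwise (s := (Finset.univ : Finset Q)) (fun g : Q => g • a)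
        (fun g => h (g • a))).symm
  rw [h1, Finset.smul_sum, Finset.sum_filter]
  refine Finset.sum_congr rfl fun b _ => ?_
  split_ifs with hb
  · obtain ⟨g₀, rfl⟩ := hb
    have h2 : ∑ g ∈ Finset.univ.filter (fun g : Q => g • a = g₀ • a), h (g • a) =
        ∑ g ∈ Finset.univ.filter (fun g : Q => g • a = g₀ • a), h (g₀ • a) :=
      Finset.sum_congr rfl fun g hg => by rw [(Finset.mem_filter.1 hg).2]
    change _ • h (g₀ • a) = _
    rw [h2, Finset.sum_const, ← Nat.cast_smul_eq_nsmul ℂ]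
    congr 2
    rw [Nat.card_eq_fintype_card, ← Fintype.card_coe]
    refine Fintype.card_congr ⟨fun g => ⟨g₀ * g, ?_⟩, fun g => ⟨g₀⁻¹ * g, ?_⟩, fun g => ?_,
      fun g => ?_⟩
    · rw [Finset.mem_filter]
      exact ⟨Finset.mem_univ _, by rw [mul_smul, MulAction.mem_stabilizer_iff.1 g.2]⟩
    · rw [MulAction.mem_stabilizer_iff, mul_smul, (Finset.mem_filter.1 g.2).2, inv_smul_smul]
    · exact Subtype.ext (by simp)
    · exact Subtype.ext (by simp)
  · rw [Finset.filter_eq_empty_iff.2, Finset.sum_empty]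
    intro g _ hg
    exact hb ⟨g, hg⟩

open scoped Classical in
theorem sum_eq_sum_orbit (f : P → V) :
    ∑ b : P, f b = ∑ ω : MulAction.orbitRel.Quotient Q P,
      ∑ b ∈ Finset.univ.filter (fun b => b ∈ MulAction.orbit Q (Quotient.out ω : P)), f b := by
  rw [← Finset.sum_fiberwise (s := (Finset.univ : Finset P))
    (fun b : P => (Quotient.mk (MulAction.orbitRel Q P) b : MulAction.orbitRel.Quotient Q P)) f]
  refine Finset.sum_congr rfl fun ω _ => Finset.sum_congr ?_ fun _ _ => rfl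
  ext b
  rw [Finset.mem_filter, Finset.mem_filter]
  refine and_congr_right fun _ => ?_
  constructor
  · rintro rfl
    have h1 : (MulAction.orbitRel Q P) (Quotient.out (Quotient.mk (MulAction.orbitRel Q P) b)) b :=
      Quotient.mk_out (s := MulAction.orbitRel Q P) b
    exact (MulAction.orbitRel Q P).symm h1
  · intro h
    have h1 : (MulAction.orbitRel Q P) b (Quotient.out ω : P) := h
    have h2 := Quotient.sound (s := MulAction.orbitRel Q P) h1
    rw [h2]
    exact Quotient.out_eq ω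

open scoped Classical in
/-- For an invariant function, `∑ |Stab b| • f b = |Q| • ∑ (over orbits) f`. -/
theorem sum_card_stab_smul (f : P → V) (hf : ∀ (g : Q) (b : P), f (g • b) = f b) :
    ∑ b : P, (Nat.card (MulAction.stabilizer Q b) : ℂ) • f b =
      (Nat.card Q : ℂ) • ∑ ω : MulAction.orbitRel.Quotient Q P, f (Quotient.out ω : P) := by
  rw [sum_eq_sum_orbit (Q := Q), Finset.smul_sum]
  refine Finset.sum_congr rfl fun ω _ => ?_
  set a : P := Quotient.out ω
  have h1 : ∀ b ∈ Finset.univ.filter (fun b => b ∈ MulAction.orbit Q a),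
      (Nat.card (MulAction.stabilizer Q b) : ℂ) • f b =
        (Nat.card (MulAction.stabilizer Q a) : ℂ) • f a := by
    intro b hb
    obtain ⟨g, rfl⟩ := (Finset.mem_filter.1 hb).2
    change (Nat.card (MulAction.stabilizer Q (g • a)) : ℂ) • f (g • a) = _
    rw [hf]
    congr 2
    exact (Nat.card_congr (MulAction.stabilizerEquivStabilizer (g := g) (a := a)
      (b := g • a) rfl).toEquiv).symm
  rw [Finset.sum_congr rfl h1, ← Finset.smul_sum, card_stab_smul_sum_orbit]
  rw [Finset.sum_const, Finset.card_univ,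
    ← Nat.card_eq_fintype_card, ← Nat.cast_smul_eq_nsmul ℂ]

end orbit

/-- A system of pairs. -/
structure PairSys (Q : Type*) [Group Q] (P : Type*) [MulAction Q P] where
  /-- the subgroup of a pair -/
  T : P → Subgroup Q
  /-- the order -/
  le : P → P → Prop
  le_refl : ∀ a, le a a
  le_trans : ∀ a b c, le a b → le b c → le a c
  T_smul : ∀ (g : Q) (a : P) (x : Q), x ∈ T (g • a) ↔ g⁻¹ * x * g ∈ T a
  smul_of_mem : ∀ (a : P) (x : Q), x ∈ T a → x • a = a
  mono : ∀ a b, le a b → T a ≤ T b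
  le_smul : ∀ (g : Q) (a b : P), le a b → le (g • a) (g • b)
  exists_res : ∀ (b : P) (R : Subgroup Q), R ≤ T b → ∃ a, T a = R ∧ le a b
  uniq : ∀ a a' b : P, le a b → le a' b → T a = T a' → a = a'

namespace PairSys

variable {Q : Type*} [Group Q] {P : Type*} [MulAction Q P] (S : PairSys Q P)

theorem card_lt [Finite Q] {a b : P} (h : S.le a b) (hne : b ≠ a) :
    Nat.card (S.T a) < Nat.card (S.T b) := by
  have h1 := S.mono a b h
  refine lt_of_le_of_ne (Subgroup.card_le_of_le h1) fun h2 => hne ?_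
  have h3 : S.T a = S.T b := Subgroup.eq_of_le_of_card_ge h1 h2.ge
  exact (S.uniq a b b h (S.le_refl b) h3).symm

theorem T_le_stabilizer (a : P) : S.T a ≤ MulAction.stabilizer Q a := fun x hx =>
  MulAction.mem_stabilizer_iff.2 (S.smul_of_mem a x hx)

theorem conj_mem_T {a : P} {n x : Q} (hn : n ∈ MulAction.stabilizer Q a) (hx : x ∈ S.T a) :
    n * x * n⁻¹ ∈ S.T a := by
  have h1 : n • a = a := MulAction.mem_stabilizer_iff.1 hn
  have h2 := (S.T_smul n a (n * x * n⁻¹)).2 (by
    have h3 : n⁻¹ * (n * x * n⁻¹) * n = x := by group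
    rw [h3]; exact hx)
  rwa [h1] at h2

theorem card_T_smul (g : Q) (a : P) : Nat.card (S.T (g • a)) = Nat.card (S.T a) := by
  refine Nat.card_congr ⟨fun x => ⟨g⁻¹ * x * g, (S.T_smul g a x).1 x.2⟩,
    fun x => ⟨g * x * g⁻¹, (S.T_smul g a _).2 ?_⟩, fun x => ?_, fun x => ?_⟩
  · have h3 : g⁻¹ * (g * x * g⁻¹) * g = x := by group
    rw [h3]; exact x.2
  · exact Subtype.ext (by simp [mul_assoc])
  · exact Subtype.ext (by simp [mul_assoc])

theorem le_smul_iff (g : Q) (a b : P) : S.le (g • a) (g • b) ↔ S.le a b := by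
  refine ⟨fun h => ?_, S.le_smul g a b⟩
  have h1 := S.le_smul g⁻¹ _ _ h
  rwa [inv_smul_smul, inv_smul_smul] at h1

variable {V : Type*} [AddCommGroup V] [Module ℂ V]

open scoped Classical in
/-- Möbius inversion. -/
noncomputable def mob [Finite Q] [Fintype P] (D : P → V) (a : P) : V :=
  D a - ∑ b : P, if h : S.le a b ∧ b ≠ a then mob D b else 0
termination_by Nat.card Q - Nat.card (S.T a)
decreasing_by
  have h1 := S.card_lt h.1 h.2
  have h2 : Nat.card (S.T b) ≤ Nat.card Q := Subgroup.card_le_card_group _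
  omega

variable [Fintype Q] [Fintype P]

open scoped Classical in
theorem mob_eq (D : P → V) (a : P) :
    S.mob D a = D a - ∑ b : P, if S.le a b ∧ b ≠ a then S.mob D b else 0 := by
  rw [mob]
  congr 1

open scoped Classical in
theorem eq_sum_mob (D : P → V) (a : P) :
    D a = ∑ b : P, if S.le a b then S.mob D b else 0 := by
  have h1 : ∑ b : P, (if S.le a b then S.mob D b else 0) =
      S.mob D a + ∑ b : P, if S.le a b ∧ b ≠ a then S.mob D b else 0 := by
    rw [← Finset.add_sum_erase _ _ (Finset.mem_univ a), if_pos (S.le_refl a)]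
    congr 1
    rw [← Finset.add_sum_erase Finset.univ (fun b => if S.le a b ∧ b ≠ a then S.mob D b else 0)
      (Finset.mem_univ a), if_neg (fun h => h.2 rfl), zero_add]
    refine Finset.sum_congr rfl fun b hb => ?_
    have hb' := Finset.ne_of_mem_erase hb
    by_cases h : S.le a b
    · rw [if_pos h, if_pos ⟨h, hb'⟩]
    · rw [if_neg h, if_neg fun h' => h h'.1]
  rw [h1, S.mob_eq D a, sub_add_cancel]

theorem mob_smul {D : P → V} (hD : ∀ (g : Q) (a : P), D (g • a) = D a) (g : Q) :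
    ∀ (n : ℕ) (a : P), Nat.card Q - Nat.card (S.T a) = n → S.mob D (g • a) = S.mob D a := by
  classical
  intro n
  induction n using Nat.strong_induction_on with
  | _ n ih =>
  intro a ha
  rw [S.mob_eq D (g • a), S.mob_eq D a, hD]
  congr 1
  rw [← Equiv.sum_comp (MulAction.toPerm g)]
  refine Finset.sum_congr rfl fun b _ => ?_
  change (if S.le (g • a) (g • b) ∧ g • b ≠ g • a then S.mob D (g • b) else 0) = _
  rw [S.le_smul_iff]
  have h0 : (g • b ≠ g • a) ↔ b ≠ a := not_congr (smul_left_cancel_iff g)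
  by_cases h : S.le a b ∧ b ≠ a
  · rw [if_pos h, if_pos ⟨h.1, h0.2 h.2⟩]
    have h1 := S.card_lt h.1 h.2
    have h2 : Nat.card (S.T b) ≤ Nat.card Q := Subgroup.card_le_card_group _
    exact ih _ (by omega) b rfl
  · rw [if_neg h, if_neg fun h' => h ⟨h'.1, h0.1 h'.2⟩]

theorem mob_smul' {D : P → V} (hD : ∀ (g : Q) (a : P), D (g • a) = D a) (g : Q) (a : P) :
    S.mob D (g • a) = S.mob D a := S.mob_smul hD g _ a rfl

omit [Fintype Q] in
theorem exists_mul_eq [Finite Q] (N K H₀ : Subgroup Q) (hKN : K ≤ N)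
    (hnorm : ∀ n ∈ N, ∀ k ∈ K, n * k * n⁻¹ ∈ K) :
    ∃ k : ℕ, Nat.card (H₀ ⊓ K : Subgroup Q) * (Nat.card N / Nat.card K) =
      Nat.card (H₀ ⊓ N : Subgroup Q) * k := by
  have hn : (K.subgroupOf N).Normal := ⟨fun k hk n => hnorm n n.2 k hk⟩
  have h1 : (K.subgroupOf N).relIndex ((H₀ ⊓ N).subgroupOf N) ∣ (K.subgroupOf N).index :=
    Subgroup.relIndex_dvd_index_of_normal _ _
  rw [Subgroup.relIndex_subgroupOf inf_le_right] at h1
  obtain ⟨k, hk⟩ := h1
  refine ⟨k, ?_⟩
  have h2 : Nat.card K * (K.subgroupOf N).index = Nat.card N := by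
    rw [← Subgroup.card_mul_index (K.subgroupOf N)]
    congr 1
    exact (Nat.card_congr (Subgroup.subgroupOfEquivOfLe hKN).toEquiv).symm
  have h3 : Nat.card (H₀ ⊓ K : Subgroup Q) * K.relIndex (H₀ ⊓ N) =
      Nat.card (H₀ ⊓ N : Subgroup Q) := by
    rw [← Subgroup.card_mul_index (K.subgroupOf (H₀ ⊓ N))]
    congr 1
    have h4 : K ⊓ (H₀ ⊓ N) = H₀ ⊓ K := by
      ext x
      simp only [Subgroup.mem_inf]
      exact ⟨fun h => ⟨h.2.1, h.1⟩, fun h => ⟨h.2, h.1, hKN h.2⟩⟩
    rw [← Subgroup.inf_subgroupOf_right, h4]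
    exact (Nat.card_congr (Subgroup.subgroupOfEquivOfLe
      (le_inf inf_le_left (inf_le_right.trans hKN))).toEquiv).symm
  have h5 : Nat.card N / Nat.card K = (K.subgroupOf N).index := by
    rw [← h2, Nat.mul_div_cancel_left _ Nat.card_pos]
  rw [h5, hk, ← mul_assoc, h3]

open scoped Classical in
theorem sum_res (a b' : P) (g : Q) (x : V) :
    (∑ b : P, if S.le a b ∧ S.T b = S.T a ⊔ Subgroup.zpowers g ∧ S.le b b' then x else 0) =
      if S.le a b' ∧ g ∈ S.T b' then x else 0 := by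
  by_cases h : S.le a b' ∧ g ∈ S.T b'
  · rw [if_pos h]
    obtain ⟨b, hb1, hb2⟩ := S.exists_res b' (S.T a ⊔ Subgroup.zpowers g)
      (sup_le (S.mono a b' h.1) (by rw [Subgroup.zpowers_le]; exact h.2))
    obtain ⟨a', ha1, ha2⟩ := S.exists_res b (S.T a) (by rw [hb1]; exact le_sup_left)
    have h1 : a' = a := S.uniq a' a b' (S.le_trans _ _ _ ha2 hb2) h.1 ha1
    rw [h1] at ha2
    rw [Finset.sum_eq_single b, if_pos ⟨ha2, hb1, hb2⟩]
    · intro c _ hc
      rw [if_neg]
      rintro ⟨h1, h2, h3⟩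
      exact hc (S.uniq c b b' h3 hb2 (h2.trans hb1.symm))
    · intro h
      exact absurd (Finset.mem_univ _) h
  · rw [if_neg h]
    refine Finset.sum_eq_zero fun b _ => ?_
    rw [if_neg]
    rintro ⟨h1, h2, h3⟩
    refine h ⟨S.le_trans _ _ _ h1 h3, S.mono b b' h3 ?_⟩
    rw [h2]
    exact (le_sup_right : _ ≤ S.T a ⊔ Subgroup.zpowers g) (Subgroup.mem_zpowers g)

open scoped Classical in
theorem sum_res_zpowers (b' : P) (z : Q) (f : P → V) (x : V)
    (hf : ∀ b, S.le b b' → S.T b = Subgroup.zpowers z → f b = x) :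
    (∑ b : P, if S.T b = Subgroup.zpowers z ∧ S.le b b' then f b else 0) =
      if z ∈ S.T b' then x else 0 := by
  by_cases h : z ∈ S.T b'
  · rw [if_pos h]
    obtain ⟨b, hb1, hb2⟩ := S.exists_res b' (Subgroup.zpowers z)
      (by rw [Subgroup.zpowers_le]; exact h)
    rw [Finset.sum_eq_single b, if_pos ⟨hb1, hb2⟩, hf b hb2 hb1]
    · intro c _ hc
      rw [if_neg]
      rintro ⟨h2, h3⟩
      exact hc (S.uniq c b b' h3 hb2 (h2.trans hb1.symm))
    · intro h
      exact absurd (Finset.mem_univ _) h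
  · rw [if_neg h]
    refine Finset.sum_eq_zero fun b _ => ?_
    rw [if_neg]
    rintro ⟨h2, h3⟩
    refine h (S.mono b b' h3 ?_)
    rw [h2]
    exact Subgroup.mem_zpowers z

/-- `|N_a|`. -/
noncomputable def nn (_S : PairSys Q P) (a : P) : ℕ := Nat.card (MulAction.stabilizer Q a)

theorem nn_smul (g : Q) (a : P) : S.nn (g • a) = S.nn a :=
  (Nat.card_congr (MulAction.stabilizerEquivStabilizer (g := g) (a := a)
      (b := g • a) rfl).toEquiv).symm

/-- `|T a|`. -/
noncomputable def tt (a : P) : ℕ := Nat.card (S.T a)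

theorem tt_smul (g : Q) (a : P) : S.tt (g • a) = S.tt a := S.card_T_smul g a

theorem tt_mul (a : P) : S.tt a * (S.nn a / S.tt a) = S.nn a :=
  Nat.mul_div_cancel' (Subgroup.card_dvd_of_le (S.T_le_stabilizer a))

theorem tt_pos (a : P) : 0 < S.tt a := Nat.card_pos

theorem nn_pos (a : P) : 0 < S.nn a := Nat.card_pos

/-- `|N_a ∩ T b|`. -/
noncomputable def aa (a b : P) : ℕ := Nat.card (MulAction.stabilizer Q a ⊓ S.T b : Subgroup Q)

theorem aa_self (a : P) : S.aa a a = S.tt a := by
  rw [aa, inf_eq_right.2 (S.T_le_stabilizer a), tt]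

theorem aa_smul {g : Q} {a : P} (hg : g ∈ MulAction.stabilizer Q a) (b : P) :
    S.aa a (g • b) = S.aa a b := by
  have h1 : ∀ {n : Q} {x : Q}, n ∈ MulAction.stabilizer Q a → x ∈ MulAction.stabilizer Q a →
      n * x * n⁻¹ ∈ MulAction.stabilizer Q a := fun hn hx =>
    Subgroup.mul_mem _ (Subgroup.mul_mem _ hn hx) (Subgroup.inv_mem _ hn)
  refine Nat.card_congr ⟨fun x => ⟨g⁻¹ * x * g, ?_, (S.T_smul g b x).1 x.2.2⟩,
    fun x => ⟨g * x * g⁻¹, h1 hg x.2.1, (S.T_smul g b _).2 ?_⟩, fun x => ?_, fun x => ?_⟩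
  · have h2 := h1 (Subgroup.inv_mem _ hg) x.2.1
    rwa [inv_inv] at h2
  · have h3 : g⁻¹ * (g * x * g⁻¹) * g = x := by group
    rw [h3]; exact x.2.2
  · exact Subtype.ext (by simp [mul_assoc])
  · exact Subtype.ext (by simp [mul_assoc])

/-- `|N_a ∩ N_b|`. -/
noncomputable def ss (_S : PairSys Q P) (a b : P) : ℕ :=
  Nat.card (MulAction.stabilizer (MulAction.stabilizer Q a) b)

theorem ss_eq (a b : P) : S.ss a b =
    Nat.card (MulAction.stabilizer Q a ⊓ MulAction.stabilizer Q b : Subgroup Q) := by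
  refine Nat.card_congr ⟨fun x => ⟨x, x.1.2, ?_⟩, fun x => ⟨⟨x, x.2.1⟩, ?_⟩, fun x => rfl,
    fun x => rfl⟩
  · exact x.2
  · exact x.2.2

theorem ss_pos (a b : P) : 0 < S.ss a b := Nat.card_pos

theorem exists_aa_mul (a b : P) : ∃ k : ℕ, S.aa a b * (S.nn b / S.tt b) = S.ss a b * k := by
  rw [ss_eq]
  exact exists_mul_eq (MulAction.stabilizer Q b) (S.T b) (MulAction.stabilizer Q a)
    (S.T_le_stabilizer b) (fun n hn k hk => S.conj_mem_T hn hk)

theorem natCast_smul_mem {X : AddSubgroup V} (k : ℕ) {x : V} (hx : x ∈ X) : (k : ℂ) • x ∈ X := by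
  rw [Nat.cast_smul_eq_nsmul]
  exact X.nsmul_mem hx k

open scoped Classical in
theorem card_filter_eq (a b : P) :
    (Finset.univ.filter (fun g : Q => g • a = a ∧ g ∈ S.T b)).card = S.aa a b := by
  rw [aa, Nat.card_eq_fintype_card, ← Fintype.card_coe]
  refine Fintype.card_congr ⟨fun g => ⟨g.1, ?_, ?_⟩, fun g => ⟨g.1, ?_⟩, fun g => rfl,
    fun g => rfl⟩
  · exact (Finset.mem_filter.1 g.2).2.1
  · exact (Finset.mem_filter.1 g.2).2.2
  · exact Finset.mem_filter.2 ⟨Finset.mem_univ _, g.2.1, g.2.2⟩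

open scoped Classical in
/-- The congruence for the Möbius inverse. -/
theorem mob_mem {X : AddSubgroup V} {D : P → V} (hinv : ∀ (g : Q) (a : P), D (g • a) = D a)
    (hD : ∀ a : P, ∃ x ∈ X, (∑ g : Q, ∑ b : P,
      if g • a = a ∧ S.le a b ∧ S.T b = S.T a ⊔ Subgroup.zpowers g then D b else 0) =
        (S.nn a : ℂ) • x) :
    ∀ (n : ℕ) (a : P), Nat.card Q - Nat.card (S.T a) = n →
      ((S.tt a : ℂ) / (S.nn a : ℂ)) • S.mob D a ∈ X := by
  intro n
  induction n using Nat.strong_induction_on with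
  | _ n ih =>
  intro a ha
  obtain ⟨x, hx, hsum⟩ := hD a
  have hne : ∀ b, (S.nn b : ℂ) ≠ 0 := fun b => Nat.cast_ne_zero.2 (S.nn_pos b).ne'
  have hte : ∀ b, (S.tt b : ℂ) ≠ 0 := fun b => Nat.cast_ne_zero.2 (S.tt_pos b).ne'
  have hse : ∀ b, (S.ss a b : ℂ) ≠ 0 := fun b => Nat.cast_ne_zero.2 (S.ss_pos a b).ne'
  -- the double sum
  have h1 : (∑ g : Q, ∑ b : P,
      if g • a = a ∧ S.le a b ∧ S.T b = S.T a ⊔ Subgroup.zpowers g then D b else 0) =
      ∑ b' : P, if S.le a b' then (S.aa a b' : ℂ) • S.mob D b' else 0 := by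
    have h2 : ∀ (g : Q) (b : P),
        (if g • a = a ∧ S.le a b ∧ S.T b = S.T a ⊔ Subgroup.zpowers g then D b else 0) =
        ∑ b' : P, if g • a = a then
          (if S.le a b ∧ S.T b = S.T a ⊔ Subgroup.zpowers g ∧ S.le b b' then S.mob D b' else 0)
          else 0 := by
      intro g b
      by_cases h3 : g • a = a ∧ S.le a b ∧ S.T b = S.T a ⊔ Subgroup.zpowers g
      · rw [if_pos h3, S.eq_sum_mob D b]
        refine Finset.sum_congr rfl fun b' _ => ?_
        rw [if_pos h3.1]
        by_cases h4 : S.le b b'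
        · rw [if_pos h4, if_pos ⟨h3.2.1, h3.2.2, h4⟩]
        · rw [if_neg h4, if_neg fun h => h4 h.2.2]
      · rw [if_neg h3]
        refine (Finset.sum_eq_zero fun b' _ => ?_).symm
        by_cases h4 : g • a = a
        · rw [if_pos h4, if_neg fun h => h3 ⟨h4, h.1, h.2.1⟩]
        · rw [if_neg h4]
    rw [Finset.sum_congr rfl fun g _ => Finset.sum_congr rfl fun b _ => h2 g b]
    rw [Finset.sum_congr rfl fun g _ => Finset.sum_comm, Finset.sum_comm]
    refine Finset.sum_congr rfl fun b' _ => ?_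
    have h3 : ∀ g : Q, (∑ b : P, if g • a = a then
          (if S.le a b ∧ S.T b = S.T a ⊔ Subgroup.zpowers g ∧ S.le b b' then S.mob D b' else 0)
          else 0) = if g • a = a ∧ g ∈ S.T b' then (if S.le a b' then S.mob D b' else 0)
            else 0 := by
      intro g
      by_cases h4 : g • a = a
      · simp only [if_pos h4]
        rw [S.sum_res a b' g]
        by_cases h5 : g ∈ S.T b'
        · rw [if_pos (show g • a = a ∧ g ∈ S.T b' from ⟨h4, h5⟩)]
          by_cases h6 : S.le a b'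
          · rw [if_pos h6, if_pos (show S.le a b' ∧ g ∈ S.T b' from ⟨h6, h5⟩)]
          · rw [if_neg h6, if_neg (show ¬ (S.le a b' ∧ g ∈ S.T b') from fun h => h6 h.1)]
        · rw [if_neg (show ¬ (g • a = a ∧ g ∈ S.T b') from fun h => h5 h.2),
            if_neg (show ¬ (S.le a b' ∧ g ∈ S.T b') from fun h => h5 h.2)]
      · simp only [if_neg h4]
        rw [if_neg fun h => h4 h.1, Finset.sum_const_zero]
    rw [Finset.sum_congr rfl fun g _ => h3 g, ← Finset.sum_filter, Finset.sum_const,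
      S.card_filter_eq]
    split_ifs with h6
    · rw [Nat.cast_smul_eq_nsmul]
    · rw [smul_zero]
  -- separate the term `b' = a`
  have h2 : (∑ b' : P, if S.le a b' then (S.aa a b' : ℂ) • S.mob D b' else 0) =
      (S.tt a : ℂ) • S.mob D a +
        ∑ b' : P, if S.le a b' ∧ b' ≠ a then (S.aa a b' : ℂ) • S.mob D b' else 0 := by
    rw [← Finset.add_sum_erase _ _ (Finset.mem_univ a), if_pos (S.le_refl a), S.aa_self]
    congr 1
    rw [← Finset.add_sum_erase Finset.univ
      (fun b' => if S.le a b' ∧ b' ≠ a then (S.aa a b' : ℂ) • S.mob D b' else 0)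
      (Finset.mem_univ a), if_neg (fun h => h.2 rfl), zero_add]
    refine Finset.sum_congr rfl fun b hb => ?_
    have hb' := Finset.ne_of_mem_erase hb
    by_cases h : S.le a b
    · rw [if_pos h, if_pos ⟨h, hb'⟩]
    · rw [if_neg h, if_neg fun h' => h h'.1]
  -- the function on the larger pairs
  set f : P → V := fun b' => if S.le a b' ∧ b' ≠ a then
    ((S.aa a b' : ℂ) / (S.ss a b' : ℂ)) • S.mob D b' else 0 with hf
  have hfinv : ∀ (g : MulAction.stabilizer Q a) (b : P), f (g • b) = f b := by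
    intro g b
    have hga : (g : Q) • a = a := MulAction.mem_stabilizer_iff.1 g.2
    have h3 : S.le a ((g : Q) • b) ↔ S.le a b := by
      have h := S.le_smul_iff (g : Q) a b
      rwa [hga] at h
    have h4 : ((g : Q) • b ≠ a) ↔ b ≠ a := by
      have h : (g : Q) • b = (g : Q) • a ↔ b = a := smul_left_cancel_iff (g : Q)
      rw [hga] at h
      exact not_congr h
    have h5 : S.ss a ((g : Q) • b) = S.ss a b :=
      (Nat.card_congr (MulAction.stabilizerEquivStabilizer (g := g) (a := b)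
        (b := g • b) rfl).toEquiv).symm
    change (if S.le a ((g : Q) • b) ∧ (g : Q) • b ≠ a then
      ((S.aa a ((g : Q) • b) : ℂ) / (S.ss a ((g : Q) • b) : ℂ)) • S.mob D ((g : Q) • b) else 0) =
      if S.le a b ∧ b ≠ a then ((S.aa a b : ℂ) / (S.ss a b : ℂ)) • S.mob D b else 0
    rw [h5, S.aa_smul g.2, S.mob_smul' hinv]
    by_cases h6 : S.le a b ∧ b ≠ a
    · rw [if_pos h6, if_pos ⟨h3.2 h6.1, h4.2 h6.2⟩]
    · rw [if_neg h6, if_neg fun h => h6 ⟨h3.1 h.1, h4.1 h.2⟩]
  have hfmem : ∀ b, f b ∈ X := by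
    intro b
    rw [hf]
    dsimp only
    split_ifs with h3
    · have h4 := S.card_lt h3.1 h3.2
      have h5 : Nat.card (S.T b) ≤ Nat.card Q := Subgroup.card_le_card_group _
      have h6 := ih _ (by omega) b rfl
      obtain ⟨k, hk⟩ := S.exists_aa_mul a b
      have h7 : (S.tt b : ℂ) * ((S.nn b / S.tt b : ℕ) : ℂ) = (S.nn b : ℂ) := by
        exact_mod_cast S.tt_mul b
      have h8 : (S.aa a b : ℂ) * ((S.nn b / S.tt b : ℕ) : ℂ) = (S.ss a b : ℂ) * k := by
        exact_mod_cast hk
      have h9 : ((S.aa a b : ℂ) / (S.ss a b : ℂ)) • S.mob D b =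
          (k : ℂ) • (((S.tt b : ℂ) / (S.nn b : ℂ)) • S.mob D b) := by
        rw [smul_smul]
        congr 1
        rw [div_eq_iff (hse b)]
        have h10 : (k : ℂ) * ((S.tt b : ℂ) / (S.nn b : ℂ)) * (S.ss a b : ℂ) =
          ((S.ss a b : ℂ) * k) * (S.tt b : ℂ) / (S.nn b : ℂ) := by ring
        rw [h10, ← h8, eq_div_iff (hne b), ← h7]
        ring
      rw [h9]
      exact natCast_smul_mem k h6
    · exact X.zero_mem
  have h3 : (∑ b' : P, if S.le a b' ∧ b' ≠ a then (S.aa a b' : ℂ) • S.mob D b' else 0) =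
      ∑ b' : P, (Nat.card (MulAction.stabilizer (MulAction.stabilizer Q a) b') : ℂ) • f b' := by
    refine Finset.sum_congr rfl fun b _ => ?_
    rw [hf]
    dsimp only
    split_ifs with h3
    · rw [smul_smul]
      congr 1
      exact (mul_div_cancel₀ _ (hse b)).symm
    · rw [smul_zero]
  have : Fintype (MulAction.stabilizer Q a) := Fintype.ofFinite _
  rw [h1, h2, h3, sum_card_stab_smul f hfinv] at hsum
  have h4 : (S.tt a : ℂ) • S.mob D a = (S.nn a : ℂ) • (x -
      ∑ ω : MulAction.orbitRel.Quotient (MulAction.stabilizer Q a) P, f (Quotient.out ω : P)) := by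
    rw [smul_sub, ← hsum]
    exact (add_sub_cancel_right _ _).symm
  have h5 : ((S.tt a : ℂ) / (S.nn a : ℂ)) • S.mob D a = x -
      ∑ ω : MulAction.orbitRel.Quotient (MulAction.stabilizer Q a) P, f (Quotient.out ω : P) := by
    rw [div_eq_inv_mul, mul_smul, h4, smul_smul, inv_mul_cancel₀ (hne a), one_smul]
  rw [h5]
  exact X.sub_mem hx (X.sum_mem fun ω _ => hfmem _)

open scoped Classical in
/-- **Main combinatorial result.** -/
theorem mem_closure {X : AddSubgroup V} {D : P → V}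
    (hinv : ∀ (g : Q) (a : P), D (g • a) = D a)
    (hD : ∀ a : P, ∃ x ∈ X, (∑ g : Q, ∑ b : P,
      if g • a = a ∧ S.le a b ∧ S.T b = S.T a ⊔ Subgroup.zpowers g then D b else 0) =
        (S.nn a : ℂ) • x)
    (c : P → Q → ℂ) (hc : ∀ a, IsGeneralizedCharacter (S.T a) (fun x : S.T a => c a x))
    (hcres : ∀ a b, S.le a b → ∀ z ∈ S.T a, c a z = c b z)
    (hcconj : ∀ (g : Q) (a : P), ∀ z ∈ S.T a, c (g • a) (g * z * g⁻¹) = c a z) :
    (fun z : Q => ∑ b : P, if S.T b = Subgroup.zpowers z then c b z • D b else 0) ∈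
      AddSubgroup.closure {F : Q → V | ∃ θ : Q → ℂ, IsGeneralizedCharacter Q θ ∧
        ∃ x ∈ X, F = fun z => θ z • x} := by
  have hne : ∀ b, (S.nn b : ℂ) ≠ 0 := fun b => Nat.cast_ne_zero.2 (S.nn_pos b).ne'
  have hte : ∀ b, (S.tt b : ℂ) ≠ 0 := fun b => Nat.cast_ne_zero.2 (S.tt_pos b).ne'
  have key : (fun z : Q => ∑ b : P, if S.T b = Subgroup.zpowers z then c b z • D b else 0) =
      ∑ ω : MulAction.orbitRel.Quotient Q P, fun z : Q =>
        indFun (S.T (Quotient.out ω : P)) (fun x => c (Quotient.out ω : P) x) z •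
          (((S.tt (Quotient.out ω : P) : ℂ) / (S.nn (Quotient.out ω : P) : ℂ)) •
            S.mob D (Quotient.out ω : P)) := by
    funext z
    rw [Finset.sum_apply]
    have h1 : (∑ b : P, if S.T b = Subgroup.zpowers z then c b z • D b else 0) =
        ∑ b : P, (if z ∈ S.T b then c b z else 0) • S.mob D b := by
      have h2 : ∀ b : P, (if S.T b = Subgroup.zpowers z then c b z • D b else 0) =
          ∑ b' : P, if S.T b = Subgroup.zpowers z ∧ S.le b b' then c b z • S.mob D b' else 0 := by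
        intro b
        by_cases h3 : S.T b = Subgroup.zpowers z
        · rw [if_pos h3, S.eq_sum_mob D b, Finset.smul_sum]
          refine Finset.sum_congr rfl fun b' _ => ?_
          by_cases h4 : S.le b b'
          · rw [if_pos h4, if_pos ⟨h3, h4⟩]
          · rw [if_neg h4, if_neg fun h => h4 h.2, smul_zero]
        · rw [if_neg h3]
          exact (Finset.sum_eq_zero fun b' _ => if_neg fun h => h3 h.1).symm
      rw [Finset.sum_congr rfl fun b _ => h2 b, Finset.sum_comm]
      refine Finset.sum_congr rfl fun b' _ => ?_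
      rw [S.sum_res_zpowers b' z (fun b => c b z • S.mob D b') (c b' z • S.mob D b')]
      · split_ifs with h
        · rfl
        · rw [zero_smul]
      · intro b hb hT
        rw [hcres b b' hb z (by rw [hT]; exact Subgroup.mem_zpowers z)]
    rw [h1, sum_eq_sum_orbit (Q := Q)]
    refine Finset.sum_congr rfl fun ω _ => ?_
    set a : P := Quotient.out ω
    have h3 : ∀ b ∈ Finset.univ.filter (fun b => b ∈ MulAction.orbit Q a),
        (if z ∈ S.T b then c b z else 0) • S.mob D b =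
          (if z ∈ S.T b then c b z else 0) • S.mob D a := by
      intro b hb
      obtain ⟨g, rfl⟩ := (Finset.mem_filter.1 hb).2
      change (if z ∈ S.T (g • a) then c (g • a) z else 0) • S.mob D (g • a) = _
      rw [S.mob_smul' hinv]
    rw [Finset.sum_congr rfl h3, ← Finset.sum_smul, smul_smul]
    congr 1
    have h4 := card_stab_smul_sum_orbit (Q := Q) (fun b => if z ∈ S.T b then c b z else 0) a
    have h5 : ∑ g : Q, (if z ∈ S.T (g • a) then c (g • a) z else 0) =
        ∑ g : Q, extendByZero (S.T a) (fun x => c a x) (g⁻¹ * z * g) := by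
      refine Finset.sum_congr rfl fun g _ => ?_
      by_cases h6 : g⁻¹ * z * g ∈ S.T a
      · rw [if_pos ((S.T_smul g a z).2 h6),
          Cfsg.Agent.Characters.Core.extendByZero_of_mem _ _ h6]
        have h7 := hcconj g a _ h6
        have h8 : g * (g⁻¹ * z * g) * g⁻¹ = z := by group
        rw [h8] at h7
        exact h7
      · rw [if_neg fun h => h6 ((S.T_smul g a z).1 h),
          Cfsg.Agent.Characters.Core.extendByZero_of_notMem _ _ h6]
    rw [h5, smul_eq_mul] at h4
    rw [Cfsg.Agent.Characters.Core.indFun_apply, ← h4]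
    change _ = ((S.tt a : ℂ)⁻¹ * ((S.nn a : ℂ) * _)) * ((S.tt a : ℂ) / (S.nn a : ℂ))
    field_simp [hne a, hte a]
  rw [key]
  refine AddSubgroup.sum_mem _ fun ω _ => AddSubgroup.subset_closure ⟨_,
    Cfsg.Agent.Characters.Brauer.isGeneralizedCharacter_indFun _ (hc _), _, ?_, rfl⟩
  exact S.mob_mem hinv hD _ _ rfl

end PairSys

end Cfsg.Agent.H651
end

-- part: H651/StarPairs
section
/-!
# The pair system of a homomorphism `A × B → G × G` (helper651)

`A` is a `p`-group, `B` a `p'`-group, `α, β : A × B →* G`.  The group `A × B` acts on `G` by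
`γ • y = α γ * y * (β γ)⁻¹`.  The pairs `(T, b)` with `T ≤ A` and `b` a Brauer pair of `G` with first component
`α(T)` form a `PairSys`; `DD` is the trace of `σ ∈ B` on the image of the idempotent of `b` on the functions on
the fixed points of `T`; `hD` is the congruence needed for `PairSys.mem_closure`.
-/

set_option autoImplicit false
set_option linter.unusedSectionVars false
set_option linter.unusedVariables false

open Cfsg

namespace Cfsg.Agent.H651

open Cfsg.Agent.H649

universe u v w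

variable {G : Type u} [Group G] {A : Type v} [Group A] {B : Type w} [Group B]

/-! ### Brauer pairs -/

section pairs

variable {p : ℕ} {M : Ideal AlgInt} [M.IsPrime] [Finite G]

theorem exists_leIdx (hM : IsPModular p M) {b : BrauerPairIdx G} (hb : IsBrauerPair p M b.1 b.2)
    {Q : Subgroup G} (hQ : Q ≤ b.1) :
    ∃ a : BrauerPairIdx G, a.1 = Q ∧ IsPBlock M a.2 ∧ LEIdx p M a b := by
  obtain ⟨f, hf⟩ := Cfsg.Agent.H644.exists_subpairLE hM hb Q hQ
  exact ⟨⟨Q, f⟩, rfl, (Cfsg.Agent.H644.isBrauerPair_of_subpairLE hf hb).2, hf⟩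

theorem leIdx_unique (hM : IsPModular p M) {a a' b : BrauerPairIdx G}
    (hb : IsBrauerPair p M b.1 b.2) (h : LEIdx p M a b) (h' : LEIdx p M a' b) (h1 : a.1 = a'.1) :
    a = a' := by
  obtain ⟨Q, f⟩ := a
  obtain ⟨Q', f'⟩ := a'
  obtain rfl : Q = Q' := h1
  obtain ⟨P, e⟩ := b
  have := Cfsg.Agent.H644.subpairLE_unique hM hb Q f f' h h'
  rw [this]

theorem leIdx_of_leIdx (hM : IsPModular p M) {a a' b : BrauerPairIdx G}
    (hb : IsBrauerPair p M b.1 b.2) (h : LEIdx p M a b) (h' : LEIdx p M a' b) (h1 : a.1 ≤ a'.1) :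
    LEIdx p M a a' :=
  Cfsg.Agent.H644.subpairLE_of_subpairLE hM hb h h' h1

theorem isPBlock_conjIdx {x : G} {a : BrauerPairIdx G} (ha : IsPBlock M a.2) :
    IsPBlock M (conjIdx x a).2 := by
  obtain ⟨Q, f⟩ := a
  rw [conjIdx_mk]
  exact (isPBlock_conjBlock_iff Q x f).2 ha

end pairs

/-! ### The pair system -/

/-- The pairs. -/
def PT (M : Ideal AlgInt) (α₁ : A →* G) : Type _ :=
  {x : Subgroup A × BrauerPairIdx G // x.2.1 = x.1.map α₁ ∧ IsPBlock M x.2.2}

theorem map_conj_map (α₁ : A →* G) (T : Subgroup A) (g : A) :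
    (T.map (MulAut.conj g).toMonoidHom).map α₁ =
      (T.map α₁).map (MulAut.conj (α₁ g)).toMonoidHom := by
  rw [Subgroup.map_map, Subgroup.map_map]
  congr 1
  ext x
  change α₁ (g * x * g⁻¹) = α₁ g * α₁ x * (α₁ g)⁻¹
  rw [map_mul, map_mul, map_inv]

noncomputable instance (M : Ideal AlgInt) (α₁ : A →* G) : MulAction A (PT M α₁) where
  smul g x := ⟨(x.1.1.map (MulAut.conj g).toMonoidHom, conjIdx (α₁ g) x.1.2), by
    constructor
    · change (conjIdx (α₁ g) x.1.2).1 = (x.1.1.map (MulAut.conj g).toMonoidHom).map α₁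
      rw [conjIdx_fst, x.2.1, map_conj_map]
    · obtain ⟨⟨T, ⟨Q, f⟩⟩, h1, h2⟩ := x
      change IsPBlock M (conjIdx (α₁ g) ⟨Q, f⟩).2
      rw [conjIdx_mk]
      exact (isPBlock_conjBlock_iff Q _ f).2 h2⟩
  one_smul x := by
    apply Subtype.ext
    refine Prod.ext ?_ ?_
    · change x.1.1.map (MulAut.conj (1 : A)).toMonoidHom = x.1.1
      ext y
      rw [Subgroup.mem_map_equiv, MulAut.conj_symm_apply]
      simp
    · change conjIdx (α₁ 1) x.1.2 = x.1.2
      rw [map_one, conjIdx_one]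
  mul_smul g h x := by
    apply Subtype.ext
    refine Prod.ext ?_ ?_
    · change x.1.1.map (MulAut.conj (g * h)).toMonoidHom =
        (x.1.1.map (MulAut.conj h).toMonoidHom).map (MulAut.conj g).toMonoidHom
      rw [Subgroup.map_map, map_mul]
      rfl
    · change conjIdx (α₁ (g * h)) x.1.2 = conjIdx (α₁ g) (conjIdx (α₁ h) x.1.2)
      rw [conjIdx_conjIdx, map_mul]

theorem smul_fst {M : Ideal AlgInt} {α₁ : A →* G} (g : A) (x : PT M α₁) :
    (g • x).1.1 = x.1.1.map (MulAut.conj g).toMonoidHom := rfl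

theorem smul_snd {M : Ideal AlgInt} {α₁ : A →* G} (g : A) (x : PT M α₁) :
    (g • x).1.2 = conjIdx (α₁ g) x.1.2 := rfl

instance [Finite G] [Finite A] (M : Ideal AlgInt) (α₁ : A →* G) : Finite (PT M α₁) := by
  have h1 : ∀ Q : Subgroup G, Finite (IrrCharacter (Subgroup.centralizer (Q : Set G))) :=
    fun Q => Cfsg.Agent.Characters.Core.finite_irr
  have h2 : Finite (BrauerPairIdx G) := inferInstance
  exact Subtype.finite

section sys

variable {p : ℕ} {M : Ideal AlgInt} [M.IsPrime] [Finite G] [Finite A]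

theorem PT.isBrauerPair {α₁ : A →* G} (hA : IsPGroup p A) (x : PT M α₁) :
    IsBrauerPair p M x.1.2.1 x.1.2.2 := by
  refine ⟨?_, x.2.2⟩
  rw [x.2.1]
  exact (hA.to_subgroup _).map α₁

/-- The pair system. -/
def sys (hM : IsPModular p M) (hA : IsPGroup p A) (α₁ : A →* G) : PairSys A (PT M α₁) where
  T x := x.1.1
  le x y := x.1.1 ≤ y.1.1 ∧ LEIdx p M x.1.2 y.1.2
  le_refl x := ⟨le_rfl, Relation.ReflTransGen.refl⟩
  le_trans x y z h h' := ⟨h.1.trans h'.1, Relation.ReflTransGen.trans h.2 h'.2⟩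
  T_smul g x y := by
    rw [smul_fst, Subgroup.mem_map_equiv, MulAut.conj_symm_apply]
  smul_of_mem x y hy := by
    apply Subtype.ext
    refine Prod.ext ?_ ?_
    · rw [smul_fst]
      ext z
      rw [Subgroup.mem_map_equiv, MulAut.conj_symm_apply]
      constructor
      · intro h
        have h1 := Subgroup.mul_mem _ (Subgroup.mul_mem _ hy h) (Subgroup.inv_mem _ hy)
        have h2 : y * (y⁻¹ * z * y) * y⁻¹ = z := by group
        rwa [h2] at h1
      · intro h
        exact Subgroup.mul_mem _ (Subgroup.mul_mem _ (Subgroup.inv_mem _ hy) h) hy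
    · rw [smul_snd]
      have h1 : α₁ y ∈ x.1.2.1 := by
        rw [x.2.1]
        exact ⟨y, hy, rfl⟩
      exact le_idxStab (Q := x.1.2.1) (f := x.1.2.2) x.2.2 h1
  mono x y h := h.1
  le_smul g x y h := ⟨Subgroup.map_mono h.1, (leIdx_conjIdx_iff _).2 h.2⟩
  exists_res y R hR := by
    obtain ⟨a, ha1, ha2, ha3⟩ := exists_leIdx hM (y.isBrauerPair hA) (Q := R.map α₁) (by
      rw [y.2.1]
      exact Subgroup.map_mono hR)
    exact ⟨⟨(R, a), ha1, ha2⟩, rfl, hR, ha3⟩
  uniq x x' y h h' hT := by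
    apply Subtype.ext
    refine Prod.ext hT ?_
    refine leIdx_unique hM (y.isBrauerPair hA) h.2 h'.2 ?_
    rw [x.2.1, x'.2.1, hT]

end sys

/-! ### The action -/

/-- The action of `A × B` on `G`. -/
def act (α β : A × B →* G) : A × B →* Equiv.Perm G where
  toFun γ :=
    { toFun := fun y => α γ * y * (β γ)⁻¹
      invFun := fun y => (α γ)⁻¹ * y * β γ
      left_inv := fun y => by simp [mul_assoc]
      right_inv := fun y => by simp [mul_assoc] }
  map_one' := by
    ext y
    change α 1 * y * (β 1)⁻¹ = y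
    rw [map_one, map_one, one_mul, inv_one, mul_one]
  map_mul' γ δ := by
    ext y
    change α (γ * δ) * y * (β (γ * δ))⁻¹ = α γ * (α δ * y * (β δ)⁻¹) * (β γ)⁻¹
    rw [map_mul, map_mul, mul_inv_rev]
    simp only [mul_assoc]

theorem act_apply (α β : A × B →* G) (γ : A × B) (y : G) :
    act α β γ y = α γ * y * (β γ)⁻¹ := rfl

/-- The fixed points of `T ≤ A`. -/
def fixS (α β : A × B →* G) (T : Subgroup A) : Set G := {y | ∀ t ∈ T, act α β (t, 1) y = y}

theorem mem_fixS {α β : A × B →* G} {T : Subgroup A} {y : G} :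
    y ∈ fixS α β T ↔ ∀ t ∈ T, act α β (t, 1) y = y := Iff.rfl

theorem mem_fixS_iff {α β : A × B →* G} {T : Subgroup A} {y : G} :
    y ∈ fixS α β T ↔ ∀ t ∈ T, α (t, 1) * y = y * β (t, 1) := by
  rw [mem_fixS]
  refine forall_congr' fun t => imp_congr_right fun _ => ?_
  rw [act_apply, mul_inv_eq_iff_eq_mul]

theorem fixS_mono {α β : A × B →* G} {T S : Subgroup A} (h : T ≤ S) {y : G}
    (hy : y ∈ fixS α β S) : y ∈ fixS α β T := fun t ht => hy t (h ht)

theorem mem_fixS_sup {α β : A × B →* G} {T : Subgroup A} {n : A} {y : G} :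
    y ∈ fixS α β (T ⊔ Subgroup.zpowers n) ↔ y ∈ fixS α β T ∧ act α β (n, 1) y = y := by
  constructor
  · intro h
    exact ⟨fixS_mono le_sup_left h, h n ((le_sup_right : _ ≤ T ⊔ Subgroup.zpowers n)
      (Subgroup.mem_zpowers n))⟩
  · rintro ⟨h1, h2⟩
    let St : Subgroup A :=
      { carrier := {t | act α β (t, 1) y = y}
        one_mem' := by
          change act α β (1, 1) y = y
          rw [← Prod.one_eq_mk, map_one]
          rfl
        mul_mem' := by
          intro s t hs ht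
          change act α β (s * t, 1) y = y
          have h3 : ((s * t, 1) : A × B) = (s, 1) * (t, 1) := by
            rw [Prod.mk_mul_mk, one_mul]
          rw [h3, map_mul]
          change act α β (s, 1) (act α β (t, 1) y) = y
          rw [show act α β (t, 1) y = y from ht]
          exact hs
        inv_mem' := by
          intro t ht
          change act α β (t⁻¹, 1) y = y
          have h3 : ((t⁻¹, 1) : A × B) = (t, 1)⁻¹ := by
            rw [Prod.inv_mk, inv_one]
          rw [h3, map_inv]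
          change (act α β (t, 1))⁻¹ y = y
          have h4 : act α β (t, 1) y = y := ht
          conv_lhs => rw [← h4]
          exact (act α β (t, 1)).symm_apply_apply y }
    have h3 : T ⊔ Subgroup.zpowers n ≤ St := by
      refine sup_le (fun t ht => h1 t ht) ?_
      rw [Subgroup.zpowers_le]
      exact h2
    exact fun t ht => h3 ht

/-- For two fixed points of `T`, `y z⁻¹` centralizes `α(T)`. -/
theorem mul_inv_mem_centralizer {α β : A × B →* G} {T : Subgroup A} {y z : G}
    (hy : y ∈ fixS α β T) (hz : z ∈ fixS α β T) :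
    y * z⁻¹ ∈ Subgroup.centralizer
      ((T.map (α.comp (MonoidHom.inl A B)) : Subgroup G) : Set G) := by
  rw [Subgroup.mem_centralizer_iff]
  rintro _ ⟨t, ht, rfl⟩
  change α (t, 1) * (y * z⁻¹) = y * z⁻¹ * α (t, 1)
  have h1 := mem_fixS_iff.1 hy t ht
  have h2 := mem_fixS_iff.1 hz t ht
  have h3 : z⁻¹ * α (t, 1) = β (t, 1) * z⁻¹ := by
    rw [inv_mul_eq_iff_eq_mul, ← mul_assoc, ← h2, mul_inv_cancel_right]
  rw [← mul_assoc, h1, mul_assoc, mul_assoc, h3]

/-- If `y` is a fixed point of `T` and `c` centralizes `α(T)` then `c y` is a fixed point. -/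
theorem mul_mem_fixS {α β : A × B →* G} {T : Subgroup A} {c y : G}
    (hc : c ∈ Subgroup.centralizer
      ((T.map (α.comp (MonoidHom.inl A B)) : Subgroup G) : Set G)) (hy : y ∈ fixS α β T) :
    c * y ∈ fixS α β T := by
  rw [mem_fixS_iff]
  intro t ht
  have h1 := mem_fixS_iff.1 hy t ht
  have h2 : α (t, 1) * c = c * α (t, 1) :=
    Subgroup.mem_centralizer_iff.1 hc _ ⟨t, ht, rfl⟩
  rw [← mul_assoc, h2, mul_assoc, h1, mul_assoc]

open scoped Classical in
/-- The idempotent matrix of a pair. -/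
noncomputable def EE (α β : A × B →* G) (T : Subgroup A) (b : BrauerPairIdx G) (y z : G) : ℂ :=
  if y ∈ fixS α β T ∧ z ∈ fixS α β T then cfE b (y * z⁻¹) else 0

theorem EE_of_mem {α β : A × B →* G} {T : Subgroup A} (b : BrauerPairIdx G) {y z : G}
    (hy : y ∈ fixS α β T) (hz : z ∈ fixS α β T) : EE α β T b y z = cfE b (y * z⁻¹) := by
  classical
  exact if_pos ⟨hy, hz⟩

theorem EE_of_not {α β : A × B →* G} {T : Subgroup A} (b : BrauerPairIdx G) {y z : G}
    (h : ¬ (y ∈ fixS α β T ∧ z ∈ fixS α β T)) : EE α β T b y z = 0 := by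
  classical
  exact if_neg h

open scoped Classical in
/-- Convolution of two matrices. -/
theorem sum_EE_mul_EE [Fintype G] (α β : A × B →* G) (T : Subgroup A) {b b' : BrauerPairIdx G}
    (hb : b.1 = T.map (α.comp (MonoidHom.inl A B))) (y w : G) :
    ∑ z, EE α β T b y z * EE α β T b' z w =
      if y ∈ fixS α β T ∧ w ∈ fixS α β T then
        ∑ x, cfE b x * cfE b' (x⁻¹ * (y * w⁻¹)) else 0 := by
  classical
  by_cases hy : y ∈ fixS α β T
  · by_cases hw : w ∈ fixS α β T
    · rw [if_pos ⟨hy, hw⟩]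
      have h1 : ∀ z, EE α β T b y z * EE α β T b' z w =
          cfE b (y * z⁻¹) * cfE b' ((y * z⁻¹)⁻¹ * (y * w⁻¹)) := by
        intro z
        have h2 : (y * z⁻¹)⁻¹ * (y * w⁻¹) = z * w⁻¹ := by group
        rw [h2]
        by_cases hz : z ∈ fixS α β T
        · rw [EE_of_mem b hy hz, EE_of_mem b' hz hw]
        · rw [EE_of_not b (fun h => hz h.2), zero_mul]
          rw [cfE_of_notMem b, zero_mul]
          intro hc
          apply hz
          rw [hb] at hc
          have h3 := mul_mem_fixS (Subgroup.inv_mem _ hc) hy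
          have h4 : (y * z⁻¹)⁻¹ * y = z := by group
          rwa [h4] at h3
      rw [Finset.sum_congr rfl fun z _ => h1 z]
      exact Fintype.sum_equiv ((Equiv.inv G).trans (Equiv.mulLeft y)) _ _ fun z => rfl
    · rw [if_neg fun h => hw h.2]
      exact Finset.sum_eq_zero fun z _ => by rw [EE_of_not b' (fun h => hw h.2), mul_zero]
  · rw [if_neg fun h => hy h.1]
    exact Finset.sum_eq_zero fun z _ => by rw [EE_of_not b (fun h => hy h.1), zero_mul]

theorem sum_EE_mul_self [Fintype G] (α β : A × B →* G) (T : Subgroup A) {b : BrauerPairIdx G}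
    (hb : b.1 = T.map (α.comp (MonoidHom.inl A B))) (y w : G) :
    ∑ z, EE α β T b y z * EE α β T b z w = EE α β T b y w := by
  classical
  rw [sum_EE_mul_EE α β T hb, EE, conv_cfE]

theorem sum_EE_mul_of_ne [Fintype G] {M : Ideal AlgInt} [M.IsPrime] (α β : A × B →* G)
    (T : Subgroup A) {b b' : BrauerPairIdx G} (hb : b.1 = T.map (α.comp (MonoidHom.inl A B)))
    (hb' : b'.1 = T.map (α.comp (MonoidHom.inl A B))) (hB : IsPBlock M b.2)
    (hB' : IsPBlock M b'.2) (hne : b ≠ b') (y w : G) :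
    ∑ z, EE α β T b y z * EE α β T b' z w = 0 := by
  classical
  rw [sum_EE_mul_EE α β T hb]
  split_ifs
  · exact conv_cfE_of_ne hB hB' (hb.trans hb'.symm) hne _
  · rfl

/-- Invariance of the fixed points. -/
theorem act_mem_fixS {α β : A × B →* G} {T : Subgroup A} {γ : A × B}
    (hγ : ∀ t ∈ T, γ.1⁻¹ * t * γ.1 ∈ T) {y : G} (hy : y ∈ fixS α β T) :
    act α β γ y ∈ fixS α β T := by
  intro t ht
  have h1 : ((t, 1) : A × B) * γ = γ * (γ.1⁻¹ * t * γ.1, 1) := by
    refine Prod.ext ?_ ?_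
    · change t * γ.1 = γ.1 * (γ.1⁻¹ * t * γ.1)
      group
    · change 1 * γ.2 = γ.2 * 1
      rw [one_mul, mul_one]
  have h2 : act α β (t, 1) (act α β γ y) = act α β ((t, 1) * γ) y := by
    rw [map_mul]; rfl
  rw [h2, h1, map_mul]
  change act α β γ (act α β (γ.1⁻¹ * t * γ.1, 1) y) = _
  rw [hy _ (hγ t ht)]

theorem act_mem_fixS_iff {α β : A × B →* G} {T : Subgroup A} {γ : A × B}
    (hγ : ∀ t, t ∈ T ↔ γ.1⁻¹ * t * γ.1 ∈ T) {y : G} :
    act α β γ y ∈ fixS α β T ↔ y ∈ fixS α β T := by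
  refine ⟨fun h => ?_, act_mem_fixS fun t ht => (hγ t).1 ht⟩
  have h1 := act_mem_fixS (γ := γ⁻¹) (α := α) (β := β) (T := T) (fun t ht => by
    change γ.1⁻¹⁻¹ * t * γ.1⁻¹ ∈ T
    rw [hγ]
    have h2 : γ.1⁻¹ * (γ.1⁻¹⁻¹ * t * γ.1⁻¹) * γ.1 = t := by group
    rw [h2]; exact ht) h
  rw [map_inv] at h1
  have h2 : (act α β γ)⁻¹ (act α β γ y) = y := (act α β γ).symm_apply_apply y
  rwa [h2] at h1

/-- Invariance of the matrix. -/
theorem EE_act {α β : A × B →* G} {T : Subgroup A} {b : BrauerPairIdx G} {γ : A × B}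
    (hγ : ∀ t, t ∈ T ↔ γ.1⁻¹ * t * γ.1 ∈ T) (hb : conjIdx (α γ) b = b) (y z : G) :
    EE α β T b (act α β γ y) (act α β γ z) = EE α β T b y z := by
  by_cases h : y ∈ fixS α β T ∧ z ∈ fixS α β T
  · rw [EE_of_mem b ((act_mem_fixS_iff hγ).2 h.1) ((act_mem_fixS_iff hγ).2 h.2),
      EE_of_mem b h.1 h.2, act_apply, act_apply]
    have h1 : α γ * y * (β γ)⁻¹ * (α γ * z * (β γ)⁻¹)⁻¹ = α γ * (y * z⁻¹) * (α γ)⁻¹ := by group
    rw [h1]
    conv_lhs => rw [← hb]
    exact cfE_conjIdx _ _ _
  · rw [EE_of_not b h, EE_of_not b]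
    rintro ⟨h1, h2⟩
    exact h ⟨(act_mem_fixS_iff hγ).1 h1, (act_mem_fixS_iff hγ).1 h2⟩

end Cfsg.Agent.H651
end

-- part: H651/StarTF
section
/-!
# Trace formulas for the pair system (helper651)

See `StarPairs`.
-/

set_option autoImplicit false
set_option linter.unusedSectionVars false
set_option linter.unusedVariables false

open Cfsg

namespace Cfsg.Agent.H651

open Cfsg.Agent.H649

universe u v w

variable {G : Type u} [Group G] {A : Type v} [Group A] {B : Type w} [Group B]

/-- `α` on `A`. -/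
abbrev resA (α : A × B →* G) : A →* G := α.comp (MonoidHom.inl A B)

/-- The trace of `σ` on the image of the idempotent of the pair. -/
noncomputable def DD [Fintype G] (α β : A × B →* G) (T : Subgroup A) (b : BrauerPairIdx G)
    (σ : B) : ℂ := ∑ y, EE α β T b y (act α β (1, σ) y)

section stab

variable {p : ℕ} {M : Ideal AlgInt} [M.IsPrime]

theorem mem_iff_of_smul_eq {α : A × B →* G} {π : PT M (resA α)} {n : A} (h : n • π = π) (t : A) :
    t ∈ π.1.1 ↔ n⁻¹ * t * n ∈ π.1.1 := by
  have h1 : π.1.1.map (MulAut.conj n).toMonoidHom = π.1.1 := congrArg (fun x => x.1.1) h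
  have h2 : t ∈ π.1.1.map (MulAut.conj n).toMonoidHom ↔ n⁻¹ * t * n ∈ π.1.1 := by
    rw [Subgroup.mem_map_equiv, MulAut.conj_symm_apply]
  rw [← h2, h1]

theorem conjIdx_of_smul_eq {α : A × B →* G} {π : PT M (resA α)} {n : A} (h : n • π = π) (σ : B) :
    conjIdx (α (n, σ)) π.1.2 = π.1.2 := by
  have h1 : conjIdx (α (n, 1)) π.1.2 = π.1.2 := congrArg (fun x => x.1.2) h
  have h2 : conjIdx (α (1, σ)) π.1.2 = π.1.2 := by
    have h3 : α (1, σ) ∈ Subgroup.centralizer (π.1.2.1 : Set G) := by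
      rw [Subgroup.mem_centralizer_iff]
      intro x hx
      have hx' : x ∈ π.1.2.1 := hx
      rw [π.2.1] at hx'
      obtain ⟨t, ht, rfl⟩ := hx'
      change α (t, 1) * α (1, σ) = α (1, σ) * α (t, 1)
      rw [← map_mul, ← map_mul, Prod.mk_mul_mk, Prod.mk_mul_mk, one_mul, mul_one, one_mul, mul_one]
    exact centralizer_le_idxStab (Q := π.1.2.1) (f := π.1.2.2) π.2.2 h3
  have h3 : ((n, σ) : A × B) = (n, 1) * (1, σ) := by
    rw [Prod.mk_mul_mk, mul_one, one_mul]
  rw [h3, map_mul, ← conjIdx_conjIdx, h2, h1]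

theorem EE_act_of_smul_eq {α β : A × B →* G} {π : PT M (resA α)} {n : A} (h : n • π = π) (σ : B)
    (y z : G) : EE α β π.1.1 π.1.2 (act α β (n, σ) y) (act α β (n, σ) z) =
      EE α β π.1.1 π.1.2 y z :=
  EE_act (mem_iff_of_smul_eq h) (conjIdx_of_smul_eq h σ) y z

end stab

theorem isPPart_prod {p : ℕ} (hp : p.Prime) [Finite A] [Finite B] (hA : IsPGroup p A)
    (hB : ¬ p ∣ Nat.card B) (n : A) (σ : B) : IsPPart p ((n, σ) : A × B) (n, 1) := by
  have : Fact p.Prime := ⟨hp⟩
  have h3 : ((n, σ) : A × B) = (n, 1) * (1, σ) := by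
    rw [Prod.mk_mul_mk, mul_one, one_mul]
  rw [h3]
  refine Cfsg.Agent.Blocks.PPart.isPPart_mul ?_ ?_ ?_
  · change ((n, 1) : A × B) * (1, σ) = (1, σ) * (n, 1)
    rw [Prod.mk_mul_mk, Prod.mk_mul_mk, one_mul, mul_one, one_mul, mul_one]
  · rw [Prod.orderOf_mk, orderOf_one, Nat.lcm_one_right]
    obtain ⟨k, hk⟩ := IsPGroup.iff_orderOf.1 hA n
    exact ⟨k, hk⟩
  · rw [Prod.orderOf_mk, orderOf_one, Nat.lcm_one_left]
    exact fun h => hB (h.trans (orderOf_dvd_natCard σ))

section tf

variable {p : ℕ} {M : Ideal AlgInt} [M.IsPrime] [Fintype G] [Finite A] [Finite B]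

theorem memLocalRing_EE (hM : IsPModular p M) {α β : A × B →* G} {T : Subgroup A}
    {b : BrauerPairIdx G} (hb : IsPBlock M b.2) (y z : G) :
    MemLocalRing M (EE α β T b y z) := by
  by_cases h : y ∈ fixS α β T ∧ z ∈ fixS α β T
  · rw [EE_of_mem b h.1 h.2]
    exact memLocalRing_cfE hM hb _
  · rw [EE_of_not b h]
    exact Cfsg.Agent.Blocks.Local.memLocalRing_zero

open scoped Classical in
/-- **Trace formula.** -/
theorem trace_step (hM : IsPModular p M) (hA : IsPGroup p A) (hB : ¬ p ∣ Nat.card B)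
    (α β : A × B →* G) [Fintype (PT M (resA α))] (ρ : PT M (resA α)) {n : A} (hn : n • ρ = ρ)
    (σ : B) : ∑ y, EE α β ρ.1.1 ρ.1.2 y (act α β (n, σ) y) =
      ∑ π : PT M (resA α), if (ρ.1.1 ≤ π.1.1 ∧ LEIdx p M ρ.1.2 π.1.2) ∧
        π.1.1 = ρ.1.1 ⊔ Subgroup.zpowers n then DD α β π.1.1 π.1.2 σ else 0 := by
  have hp : p.Prime := hM.1
  set S := ρ.1.1 ⊔ Subgroup.zpowers n with hS
  set C : PT M (resA α) → Prop := fun π => (ρ.1.1 ≤ π.1.1 ∧ LEIdx p M ρ.1.2 π.1.2) ∧
    π.1.1 = S with hC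
  set F : G → G → ℂ := fun y z => ∑ π : PT M (resA α), if C π then EE α β π.1.1 π.1.2 y z else 0
    with hF
  have hnS : n ∈ S := (le_sup_right : _ ≤ S) (Subgroup.mem_zpowers n)
  have hstab : ∀ π : PT M (resA α), C π → n • π = π := fun π hπ =>
    (sys hM hA (resA α)).smul_of_mem π n (by
      change n ∈ π.1.1
      rw [hπ.2]
      exact hnS)
  have key := sum_perm_eq hM (act α β) (isPPart_prod hp hA hB n σ) (EE α β ρ.1.1 ρ.1.2) F
    (fun y z => memLocalRing_EE hM ρ.2.2 y z) ?_ (sum_EE_mul_self α β ρ.1.1 ρ.2.1) ?_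
    (EE_act_of_smul_eq hn σ) ?_ ?_ ?_
  · change _ = ∑ π : PT M (resA α), if C π then DD α β π.1.1 π.1.2 σ else 0
    rw [key]
    rw [hF]
    dsimp only
    rw [Finset.sum_comm]
    refine Finset.sum_congr rfl fun π _ => ?_
    by_cases hπ : C π
    · rw [if_pos hπ, Finset.sum_congr rfl fun y _ => if_pos hπ]
      unfold DD
      refine Finset.sum_congr rfl fun y _ => ?_
      by_cases hy : y ∈ fixS α β π.1.1
      · have h1 : act α β (n, 1) y = y := hy n (by rw [hπ.2]; exact hnS)
        have h3 : ((n, σ) : A × B) = (1, σ) * (n, 1) := by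
          rw [Prod.mk_mul_mk, mul_one, one_mul]
        have h4 : act α β (n, σ) y = act α β (1, σ) y := by
          rw [h3, map_mul]
          change act α β (1, σ) (act α β (n, 1) y) = _
          rw [h1]
        rw [h4]
      · rw [EE_of_not _ (fun h => hy h.1), EE_of_not _ (fun h => hy h.1)]
    · rw [if_neg hπ, Finset.sum_congr rfl fun y _ => if_neg hπ, Finset.sum_const_zero]
  · -- entries in the local ring
    intro y z
    refine Cfsg.Agent.Blocks.Local.memLocalRing_sum fun π _ => ?_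
    by_cases hπ : C π
    · rw [if_pos hπ]
      exact memLocalRing_EE hM π.2.2 y z
    · rw [if_neg hπ]
      exact Cfsg.Agent.Blocks.Local.memLocalRing_zero
  · -- idempotent
    intro y z
    have h1 : ∀ b, F y b * F b z = ∑ π : PT M (resA α), ∑ π' : PT M (resA α),
        if C π ∧ C π' then EE α β π.1.1 π.1.2 y b * EE α β π'.1.1 π'.1.2 b z else 0 := by
      intro b
      rw [hF]
      dsimp only
      rw [Finset.sum_mul_sum]
      refine Finset.sum_congr rfl fun π _ => Finset.sum_congr rfl fun π' _ => ?_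
      by_cases hπ : C π
      · by_cases hπ' : C π'
        · rw [if_pos hπ, if_pos hπ', if_pos ⟨hπ, hπ'⟩]
        · rw [if_neg hπ', mul_zero, if_neg fun h => hπ' h.2]
      · rw [if_neg hπ, zero_mul, if_neg fun h => hπ h.1]
    rw [Finset.sum_congr rfl fun b _ => h1 b, Finset.sum_comm]
    rw [Finset.sum_congr rfl fun π _ => Finset.sum_comm]
    rw [hF]
    dsimp only
    refine Finset.sum_congr rfl fun π _ => ?_
    rw [Finset.sum_eq_single π]
    · by_cases hπ : C π
      · simp only [if_pos hπ, if_pos (And.intro hπ hπ)]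
        exact sum_EE_mul_self α β π.1.1 π.2.1 y z
      · rw [if_neg hπ]
        exact Finset.sum_eq_zero fun b _ => if_neg fun h => hπ h.1
    · intro π' _ hne
      by_cases hh : C π ∧ C π'
      · simp only [if_pos hh]
        have h2 : π.1.1 = π'.1.1 := hh.1.2.trans hh.2.2.symm
        have h3 : π.1.2 ≠ π'.1.2 := fun h => hne (Subtype.ext (Prod.ext h2.symm h.symm))
        rw [← h2]
        exact sum_EE_mul_of_ne (M := M) α β π.1.1 π.2.1 (by rw [h2]; exact π'.2.1) π.2.2 π'.2.2
          h3 y z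
      · exact Finset.sum_eq_zero fun b _ => if_neg hh
    · exact fun h => absurd (Finset.mem_univ _) h
  · -- invariance
    intro y z
    rw [hF]
    dsimp only
    refine Finset.sum_congr rfl fun π _ => ?_
    by_cases hπ : C π
    · rw [if_pos hπ, if_pos hπ]
      exact EE_act_of_smul_eq (hstab π hπ) σ y z
    · rw [if_neg hπ, if_neg hπ]
  · -- support
    intro y z hne
    obtain ⟨π, -, hπ⟩ := Finset.exists_ne_zero_of_sum_ne_zero hne
    by_cases hCπ : C π
    · rw [if_pos hCπ] at hπ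
      have h1 : y ∈ fixS α β π.1.1 ∧ z ∈ fixS α β π.1.1 := by
        by_contra h
        exact hπ (EE_of_not _ h)
      exact ⟨h1.1 n (by rw [hCπ.2]; exact hnS), h1.2 n (by rw [hCπ.2]; exact hnS)⟩
    · rw [if_neg hCπ] at hπ
      exact absurd rfl hπ
  · -- congruence
    intro y z hy hz
    by_cases hmem : y ∈ fixS α β ρ.1.1 ∧ z ∈ fixS α β ρ.1.1
    · have hyS : y ∈ fixS α β S := mem_fixS_sup.2 ⟨hmem.1, hy⟩
      have hzS : z ∈ fixS α β S := mem_fixS_sup.2 ⟨hmem.2, hz⟩
      rw [EE_of_mem _ hmem.1 hmem.2]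
      have hcent := mul_inv_mem_centralizer hyS hzS
      set s : Finset (BrauerPairIdx G) := (Finset.univ.filter fun π : PT M (resA α) => C π).image
        (fun π => π.1.2) with hs
      have h1 : F y z = ∑ b ∈ s, cfE b (y * z⁻¹) := by
        rw [hF, hs]
        dsimp only
        rw [Finset.sum_image, Finset.sum_filter]
        · refine Finset.sum_congr rfl fun π _ => ?_
          by_cases hπ : C π
          · rw [if_pos hπ, if_pos hπ, EE_of_mem]
            · rw [hπ.2]; exact hyS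
            · rw [hπ.2]; exact hzS
          · rw [if_neg hπ, if_neg hπ]
        · intro π hπ π' hπ' h
          have h2 : C π := (Finset.mem_filter.1 (Finset.mem_coe.1 hπ)).2
          have h3 : C π' := (Finset.mem_filter.1 (Finset.mem_coe.1 hπ')).2
          exact Subtype.ext (Prod.ext (h2.2.trans h3.2.symm) h)
      rw [h1]
      have hSp : IsPGroup p (S.map (resA α)) := (hA.to_subgroup _).map _
      have hρ := ρ.isBrauerPair hA
      have hle : ρ.1.2.1 ≤ S.map (resA α) := by
        rw [ρ.2.1]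
        exact Subgroup.map_mono le_sup_left
      have hst : ∀ x ∈ S.map (resA α), conjIdx x ρ.1.2 = ρ.1.2 := by
        rintro _ ⟨t, ht, rfl⟩
        have hSle : S ≤ MulAction.stabilizer A ρ := by
          refine sup_le (fun x hx => ?_) ?_
          · exact MulAction.mem_stabilizer_iff.2 ((sys hM hA (resA α)).smul_of_mem ρ x hx)
          · rw [Subgroup.zpowers_le]
            exact MulAction.mem_stabilizer_iff.2 hn
        have h2 : t • ρ = ρ := MulAction.mem_stabilizer_iff.1 (hSle ht)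
        exact congrArg (fun x => x.1.2) h2
      refine cfE_congr hM (Q := ρ.1.2.1) (f := ρ.1.2.2) hρ hSp hle hst s ?_ hcent
      intro b
      rw [hs, Finset.mem_image]
      constructor
      · rintro ⟨π, hπ, rfl⟩
        have h2 : C π := (Finset.mem_filter.1 hπ).2
        refine ⟨?_, π.2.2, h2.1.2⟩
        rw [π.2.1, h2.2]
      · rintro ⟨h2, h3, h4⟩
        exact ⟨⟨(S, b), h2, h3⟩, Finset.mem_filter.2 ⟨Finset.mem_univ _, ⟨le_sup_left, h4⟩, rfl⟩,
          rfl⟩
    · rw [EE_of_not _ hmem, zero_sub]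
      have h1 : F y z = 0 := by
        refine Finset.sum_eq_zero fun π _ => ?_
        by_cases hπ : C π
        · rw [if_pos hπ]
          refine EE_of_not _ fun h => hmem ⟨fixS_mono hπ.1.1 h.1, fixS_mono hπ.1.1 h.2⟩
        · rw [if_neg hπ]
      rw [h1, neg_zero]
      exact Cfsg.Agent.Blocks.Local.memLocalIdeal_zero

end tf

end Cfsg.Agent.H651
end

-- part: H651/StarTheta
section
/-!
# The two-variable function of a weight restricted to `A × B` (helper651)
-/

set_option autoImplicit false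
set_option linter.unusedSectionVars false
set_option linter.unusedVariables false

open Cfsg

namespace Cfsg.Agent.H651

open Cfsg.Agent.H649

universe u v w

/-- The generalized characters as an additive subgroup. -/
def charSub (B : Type w) [Group B] : AddSubgroup (B → ℂ) where
  carrier := {θ | IsGeneralizedCharacter B θ}
  add_mem' := fun h h' => Cfsg.Agent.Characters.Brauer.isGeneralizedCharacter_add h h'
  zero_mem' := Cfsg.Agent.Characters.Brauer.isGeneralizedCharacter_zero
  neg_mem' := fun h => Cfsg.Agent.Characters.Brauer.isGeneralizedCharacter_neg h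

theorem mem_charSub {B : Type w} [Group B] {θ : B → ℂ} :
    θ ∈ charSub B ↔ IsGeneralizedCharacter B θ := Iff.rfl

variable {G : Type u} [Group G] {A : Type v} [Group A] {B : Type w} [Group B]

section inv

variable {M : Ideal AlgInt}

theorem act_mem_fixS_smul {α β : A × B →* G} {T : Subgroup A} (g : A) {y : G} :
    act α β (g, 1) y ∈ fixS α β (T.map (MulAut.conj g).toMonoidHom) ↔ y ∈ fixS α β T := by
  have key : ∀ (g : A) (T : Subgroup A) (y : G), y ∈ fixS α β T →
      act α β (g, 1) y ∈ fixS α β (T.map (MulAut.conj g).toMonoidHom) := by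
    intro g T y hy
    rintro _ ⟨t, ht, rfl⟩
    change act α β (g * t * g⁻¹, 1) (act α β (g, 1) y) = _
    have h1 : act α β (g * t * g⁻¹, 1) (act α β (g, 1) y) =
        act α β ((g * t * g⁻¹, 1) * (g, 1)) y := by
      rw [map_mul]; rfl
    have h2 : (((g * t * g⁻¹, 1) : A × B) * (g, 1)) = (g, 1) * (t, 1) := by
      rw [Prod.mk_mul_mk, Prod.mk_mul_mk, inv_mul_cancel_right]
    rw [h1, h2, map_mul]
    change act α β (g, 1) (act α β (t, 1) y) = _
    rw [hy t ht]
  refine ⟨fun h => ?_, key g T y⟩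
  have h1 := key g⁻¹ _ _ h
  have h2 : (T.map (MulAut.conj g).toMonoidHom).map (MulAut.conj g⁻¹).toMonoidHom = T := by
    ext x
    rw [Subgroup.mem_map_equiv, Subgroup.mem_map_equiv, MulAut.conj_symm_apply,
      MulAut.conj_symm_apply]
    have h3 : g⁻¹ * (g⁻¹⁻¹ * x * g⁻¹) * g = x := by group
    rw [h3]
  have h3 : act α β (g⁻¹, 1) (act α β (g, 1) y) = y := by
    have h4 : ((g⁻¹, 1) : A × B) = (g, 1)⁻¹ := by rw [Prod.inv_mk, inv_one]
    rw [h4, map_inv]
    exact (act α β (g, 1)).symm_apply_apply y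
  rwa [h2, h3] at h1

theorem EE_smul {α β : A × B →* G} (g : A) (π : PT M (resA α)) (y z : G) :
    EE α β (g • π).1.1 (g • π).1.2 (act α β (g, 1) y) (act α β (g, 1) z) =
      EE α β π.1.1 π.1.2 y z := by
  rw [smul_fst, smul_snd]
  by_cases h : y ∈ fixS α β π.1.1 ∧ z ∈ fixS α β π.1.1
  · rw [EE_of_mem _ ((act_mem_fixS_smul g).2 h.1) ((act_mem_fixS_smul g).2 h.2),
      EE_of_mem _ h.1 h.2, act_apply, act_apply]
    have h1 : α (g, 1) * y * (β (g, 1))⁻¹ * (α (g, 1) * z * (β (g, 1))⁻¹)⁻¹ =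
      α (g, 1) * (y * z⁻¹) * (α (g, 1))⁻¹ := by group
    rw [h1]
    exact cfE_conjIdx _ _ _
  · rw [EE_of_not _ h, EE_of_not]
    rintro ⟨h1, h2⟩
    exact h ⟨(act_mem_fixS_smul g).1 h1, (act_mem_fixS_smul g).1 h2⟩

theorem DD_smul [Fintype G] {α β : A × B →* G} (g : A) (π : PT M (resA α)) :
    DD α β (g • π).1.1 (g • π).1.2 = DD α β π.1.1 π.1.2 := by
  funext σ
  unfold DD
  rw [← Equiv.sum_comp (act α β (g, 1))]
  refine Finset.sum_congr rfl fun y _ => ?_
  have h1 : act α β (1, σ) (act α β (g, 1) y) = act α β (g, 1) (act α β (1, σ) y) := by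
    have h2 : ((1, σ) : A × B) * (g, 1) = (g, 1) * (1, σ) := by
      rw [Prod.mk_mul_mk, Prod.mk_mul_mk, one_mul, mul_one, one_mul, mul_one]
    have h3 : act α β ((1, σ) * (g, 1)) y = act α β ((g, 1) * (1, σ)) y := by rw [h2]
    rw [map_mul, map_mul] at h3
    exact h3
  rw [h1, EE_smul]

end inv

section hD

variable {p : ℕ} {M : Ideal AlgInt} [M.IsPrime] [Fintype G] [Fintype A] [Finite B]

open scoped Classical in
/-- The congruence. -/
theorem exists_hD (hM : IsPModular p M) (hA : IsPGroup p A) (hB : ¬ p ∣ Nat.card B)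
    (α β : A × B →* G) [Fintype (PT M (resA α))] (ρ : PT M (resA α)) :
    ∃ x ∈ charSub B, (∑ g : A, ∑ π : PT M (resA α),
      if g • ρ = ρ ∧ (sys hM hA (resA α)).le ρ π ∧
        (sys hM hA (resA α)).T π = (sys hM hA (resA α)).T ρ ⊔ Subgroup.zpowers g
      then DD α β π.1.1 π.1.2 else 0) = ((sys hM hA (resA α)).nn ρ : ℂ) • x := by
  have : Fintype (MulAction.stabilizer A ρ) := Fintype.ofFinite _
  set N := MulAction.stabilizer A ρ with hN
  let φN : N →* Equiv.Perm G := (act α β).comp ((MonoidHom.inl A B).comp N.subtype)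
  let φ : B →* Equiv.Perm G := (act α β).comp (MonoidHom.inr A B)
  have hφN : ∀ (n : N) (y : G), φN n y = act α β (n, 1) y := fun n y => rfl
  have hφ : ∀ (σ : B) (y : G), φ σ y = act α β (1, σ) y := fun σ y => rfl
  have hmul : ∀ (n : A) (σ : B) (y : G), act α β (n, 1) (act α β (1, σ) y) =
      act α β (n, σ) y := by
    intro n σ y
    have h2 : ((n, 1) : A × B) * (1, σ) = (n, σ) := by
      rw [Prod.mk_mul_mk, mul_one, one_mul]
    rw [← h2, map_mul]
    rfl
  have hmul' : ∀ (n : A) (σ : B) (y : G), act α β (1, σ) (act α β (n, 1) y) =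
      act α β (n, σ) y := by
    intro n σ y
    have h2 : ((1, σ) : A × B) * (n, 1) = (n, σ) := by
      rw [Prod.mk_mul_mk, mul_one, one_mul]
    rw [← h2, map_mul]
    rfl
  have hchar := isCharacter_avg φN φ (fun n σ y => by rw [hφN, hφ, hφ, hφN, hmul, hmul'])
    (EE α β ρ.1.1 ρ.1.2) (sum_EE_mul_self α β ρ.1.1 ρ.2.1)
    (fun n y z => EE_act_of_smul_eq (MulAction.mem_stabilizer_iff.1 n.2) 1 y z)
    (fun σ y z => EE_act_of_smul_eq (one_smul A ρ) σ y z)
  refine ⟨_, Cfsg.Agent.Characters.Brauer.isGeneralizedCharacter_of_isCharacter hchar, ?_⟩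
  have hne : (Nat.card N : ℂ) ≠ 0 := Nat.cast_ne_zero.2 Nat.card_pos.ne'
  funext σ
  rw [Pi.smul_apply]
  change _ = (Nat.card N : ℂ) • ((Nat.card N : ℂ)⁻¹ * _)
  rw [smul_eq_mul, mul_inv_cancel_left₀ hne, Finset.sum_apply]
  have h1 : ∀ g : A, (∑ π : PT M (resA α),
      if g • ρ = ρ ∧ (sys hM hA (resA α)).le ρ π ∧
        (sys hM hA (resA α)).T π = (sys hM hA (resA α)).T ρ ⊔ Subgroup.zpowers g
      then DD α β π.1.1 π.1.2 else 0) σ =
      if g ∈ N then ∑ y, EE α β ρ.1.1 ρ.1.2 y (act α β (g, σ) y) else 0 := by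
    intro g
    rw [Finset.sum_apply]
    by_cases hg : g • ρ = ρ
    · rw [if_pos (MulAction.mem_stabilizer_iff.2 hg), trace_step hM hA hB α β ρ hg σ]
      refine Finset.sum_congr rfl fun π _ => ?_
      by_cases h2 : (ρ.1.1 ≤ π.1.1 ∧ LEIdx p M ρ.1.2 π.1.2) ∧
        π.1.1 = ρ.1.1 ⊔ Subgroup.zpowers g
      · rw [if_pos h2, if_pos]
        exact ⟨hg, h2.1, h2.2⟩
      · rw [if_neg h2, if_neg]
        · rfl
        · rintro ⟨-, h3, h4⟩
          exact h2 ⟨h3, h4⟩
    · rw [if_neg fun h => hg (MulAction.mem_stabilizer_iff.1 h)]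
      refine Finset.sum_eq_zero fun π _ => ?_
      rw [if_neg fun h => hg h.1]
      rfl
  rw [Finset.sum_congr rfl fun g _ => h1 g, ← Finset.sum_filter]
  refine (Finset.sum_bij (fun (n : N) _ => (n : A)) ?_ ?_ ?_ ?_).symm
  · intro n _
    exact Finset.mem_filter.2 ⟨Finset.mem_univ _, n.2⟩
  · intro n _ n' _ h
    exact Subtype.ext h
  · intro g hg
    exact ⟨⟨g, (Finset.mem_filter.1 hg).2⟩, Finset.mem_univ _, rfl⟩
  · intro n _
    refine Finset.sum_congr rfl fun y _ => ?_
    rw [hφN, hφ, hmul]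

end hD

end Cfsg.Agent.H651
end

-- part: H651/StarTwo
section
/-!
# The two-variable function of a weight (helper651)

`Theta p M w (g, h) = ∑ f, w g_p (⟨g_p⟩, f) * ∑ a, f̂ (a h a⁻¹ g⁻¹)`.  Its restriction along
`(α, β) : A × B → G × G` is a generalized character (`A` a `p`-group, `B` a `p'`-group).
-/

set_option autoImplicit false
set_option linter.unusedSectionVars false
set_option linter.unusedVariables false

open Cfsg

namespace Cfsg.Agent.H651

open Cfsg.Agent.H649

universe u v w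

/-- Generalized characters pull back along homomorphisms. -/
theorem isGeneralizedCharacter_comp_hom {G : Type u} [Group G] {H : Type v} [Group H]
    (f : H →* G) {χ : G → ℂ} (hχ : IsGeneralizedCharacter G χ) :
    IsGeneralizedCharacter H (fun h => χ (f h)) := by
  obtain ⟨χ₁, χ₂, h1, h2, rfl⟩ := hχ
  exact ⟨_, _, Cfsg.Agent.Characters.Core.isCharacter_comp f h1,
    Cfsg.Agent.Characters.Core.isCharacter_comp f h2, rfl⟩

/-- The `p`-part is preserved by homomorphisms. -/
theorem isPPart_hom {G : Type u} [Group G] {H : Type v} [Group H] (f : G →* H) {p : ℕ}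
    (hp : p.Prime) {g x : G} (h : IsPPart p g x) : IsPPart p (f g) (f x) := by
  obtain ⟨y, rfl, hxy, ⟨k, hk⟩, hy⟩ := h
  refine ⟨f y, (map_mul f x y).symm, hxy.map f, ?_, fun h => hy (h.trans (orderOf_map_dvd f y))⟩
  have h1 : orderOf (f x) ∣ p ^ k := by
    rw [← hk]
    exact orderOf_map_dvd f x
  obtain ⟨j, -, hj⟩ := (Nat.dvd_prime_pow hp).1 h1
  exact ⟨j, hj⟩

variable {G : Type u} [Group G]

/-- The two-variable function of a weight. -/
noncomputable def Theta (p : ℕ) (M : Ideal AlgInt) (w : G → BrauerPairIdx G → ℂ) (g h : G) : ℂ :=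
  ∑ᶠ b ∈ blkPairs M (Subgroup.zpowers (pp p g)), w (pp p g) b *
    ∑ᶠ a : G, cfE b (a * h * a⁻¹ * g⁻¹)

variable {A : Type v} [Group A] {B : Type w} [Group B]

theorem mem_fixS_zpowers {α β : A × B →* G} {z : A} {y : G}
    (h : act α β (z, 1) y = y) : y ∈ fixS α β (Subgroup.zpowers z) := by
  have h1 : y ∈ fixS α β (⊥ ⊔ Subgroup.zpowers z) := by
    rw [mem_fixS_sup]
    refine ⟨fun t ht => ?_, h⟩
    rw [Subgroup.mem_bot] at ht
    subst ht
    have h2 : ((1, 1) : A × B) = 1 := rfl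
    rw [h2, map_one]
    rfl
  rwa [bot_sup_eq] at h1

section theta

variable {p : ℕ} {M : Ideal AlgInt} [M.IsPrime] [Fintype G] [Finite A] [Finite B]

theorem sum_cfE_eq_DD (hM : IsPModular p M) (hA : IsPGroup p A) (hB : ¬ p ∣ Nat.card B)
    (α β : A × B →* G) (z : A) (σ : B) (b : BrauerPairIdx G)
    (hb : b.1 = (Subgroup.zpowers z).map (resA α)) (hbl : IsPBlock M b.2) :
    ∑ a : G, cfE b (a * β (z, σ) * a⁻¹ * (α (z, σ))⁻¹) = DD α β (Subgroup.zpowers z) b σ := by
  classical
  have hp : p.Prime := hM.1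
  let π : PT M (resA α) := ⟨(Subgroup.zpowers z, b), hb, hbl⟩
  have hπ : z • π = π := (sys hM hA (resA α)).smul_of_mem π z (Subgroup.mem_zpowers z)
  have hcj : conjIdx (α (z, σ)) b = b := conjIdx_of_smul_eq hπ σ
  have key := sum_perm_eq hM (act α β) (isPPart_prod hp hA hB z σ)
    (fun y y' => cfE b (y * y'⁻¹)) (EE α β (Subgroup.zpowers z) b)
    (fun y y' => memLocalRing_cfE hM hbl _) (fun y y' => memLocalRing_EE hM hbl y y') ?_
    (sum_EE_mul_self α β _ hb) ?_ (fun y y' => EE_act_of_smul_eq hπ σ y y') ?_ ?_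
  · have h1 : ∀ a : G, cfE b (a * β (z, σ) * a⁻¹ * (α (z, σ))⁻¹) =
        cfE b (a * (act α β (z, σ) a)⁻¹) := by
      intro a
      rw [act_apply]
      congr 1
      group
    rw [Finset.sum_congr rfl fun a _ => h1 a]
    refine key.trans ?_
    unfold DD
    refine Finset.sum_congr rfl fun y _ => ?_
    by_cases hy : y ∈ fixS α β (Subgroup.zpowers z)
    · have h1 : act α β (z, 1) y = y := hy z (Subgroup.mem_zpowers z)
      have h3 : ((z, σ) : A × B) = (1, σ) * (z, 1) := by
        rw [Prod.mk_mul_mk, mul_one, one_mul]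
      have h4 : act α β (z, σ) y = act α β (1, σ) y := by
        rw [h3, map_mul]
        change act α β (1, σ) (act α β (z, 1) y) = _
        rw [h1]
      rw [h4]
    · rw [EE_of_not _ (fun h => hy h.1), EE_of_not _ (fun h => hy h.1)]
  · intro y w
    have h1 : ∀ x : G, cfE b (y * x⁻¹) * cfE b (x * w⁻¹) =
        cfE b (y * x⁻¹) * cfE b ((y * x⁻¹)⁻¹ * (y * w⁻¹)) := by
      intro x
      congr 2
      group
    rw [Finset.sum_congr rfl fun x _ => h1 x, ← conv_cfE b (y * w⁻¹)]
    exact Fintype.sum_equiv ((Equiv.inv G).trans (Equiv.mulLeft y)) _ _ fun x => rfl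
  · intro y y'
    rw [act_apply, act_apply]
    have h1 : α (z, σ) * y * (β (z, σ))⁻¹ * (α (z, σ) * y' * (β (z, σ))⁻¹)⁻¹ =
      α (z, σ) * (y * y'⁻¹) * (α (z, σ))⁻¹ := by group
    change cfE b (α (z, σ) * y * (β (z, σ))⁻¹ * (α (z, σ) * y' * (β (z, σ))⁻¹)⁻¹) = _
    rw [h1]
    conv_lhs => rw [← hcj]
    exact cfE_conjIdx _ _ _
  · intro y y' hne
    have h1 : y ∈ fixS α β (Subgroup.zpowers z) ∧ y' ∈ fixS α β (Subgroup.zpowers z) := by
      by_contra h
      exact hne (EE_of_not _ h)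
    exact ⟨h1.1 z (Subgroup.mem_zpowers z), h1.2 z (Subgroup.mem_zpowers z)⟩
  · intro y y' hy hy'
    rw [EE_of_mem _ (mem_fixS_zpowers hy) (mem_fixS_zpowers hy'), sub_self]
    exact Cfsg.Agent.Blocks.Local.memLocalIdeal_zero

open scoped Classical in
/-- The two-variable function on the image of `A × B`. -/
theorem Theta_eq (hM : IsPModular p M) (hA : IsPGroup p A) (hB : ¬ p ∣ Nat.card B)
    (α β : A × B →* G) [Fintype (PT M (resA α))] (w : G → BrauerPairIdx G → ℂ) (z : A) (σ : B) :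
    Theta p M w (α (z, σ)) (β (z, σ)) = ∑ π : PT M (resA α),
      if π.1.1 = Subgroup.zpowers z then w (α (z, 1)) π.1.2 * DD α β π.1.1 π.1.2 σ else 0 := by
  have hp : p.Prime := hM.1
  have : Fact p.Prime := ⟨hp⟩
  have hpp : pp p (α (z, σ)) = α (z, 1) :=
    pp_eq (isPPart_hom α hp (isPPart_prod hp hA hB z σ))
  have hz : Subgroup.zpowers (α (z, 1)) = (Subgroup.zpowers z).map (resA α) := by
    rw [MonoidHom.map_zpowers]
    rfl
  unfold Theta
  rw [hpp, ← Finset.sum_filter]
  set s : Finset (BrauerPairIdx G) := (Finset.univ.filter fun π : PT M (resA α) =>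
    π.1.1 = Subgroup.zpowers z).image (fun π => π.1.2) with hs
  have hset : blkPairs M (Subgroup.zpowers (α (z, 1))) = (s : Set (BrauerPairIdx G)) := by
    ext b
    rw [hs, Finset.mem_coe, Finset.mem_image]
    constructor
    · rintro ⟨h1, h2⟩
      exact ⟨⟨(Subgroup.zpowers z, b), by rw [h1, hz], h2⟩,
        Finset.mem_filter.2 ⟨Finset.mem_univ _, rfl⟩, rfl⟩
    · rintro ⟨π, hπ, rfl⟩
      have h1 : π.1.1 = Subgroup.zpowers z := (Finset.mem_filter.1 hπ).2
      exact ⟨by rw [hz, ← h1]; exact π.2.1, π.2.2⟩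
  rw [hset, finsum_mem_coe_finset, hs, Finset.sum_image]
  · refine Finset.sum_congr rfl fun π hπ => ?_
    have h1 : π.1.1 = Subgroup.zpowers z := (Finset.mem_filter.1 hπ).2
    rw [finsum_eq_sum_of_fintype, sum_cfE_eq_DD hM hA hB α β z σ π.1.2 (by rw [← h1]; exact π.2.1)
      π.2.2, h1]
  · intro π hπ π' hπ' h
    have h2 : π.1.1 = Subgroup.zpowers z := (Finset.mem_filter.1 (Finset.mem_coe.1 hπ)).2
    have h3 : π'.1.1 = Subgroup.zpowers z := (Finset.mem_filter.1 (Finset.mem_coe.1 hπ')).2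
    exact Subtype.ext (Prod.ext (h2.trans h3.symm) h)

end theta

section main

variable {p : ℕ} {M : Ideal AlgInt} [M.IsPrime] [Fintype G] [Fintype A] [Finite B]

/-- The restriction of the two-variable function to `A × B` is a generalized character. -/
theorem isGeneralizedCharacter_Theta_comp (hM : IsPModular p M) (hA : IsPGroup p A)
    (hB : ¬ p ∣ Nat.card B) (α β : A × B →* G) {w : G → BrauerPairIdx G → ℂ}
    (hw : IsWeight p M w) :
    IsGeneralizedCharacter (A × B) fun γ => Theta p M w (α γ) (β γ) := by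
  classical
  have : Fintype (PT M (resA α)) := Fintype.ofFinite _
  obtain ⟨hw1, hw2⟩ := hw
  have hBP : ∀ π : PT M (resA α), IsBrauerPair p M π.1.2.1 π.1.2.2 := fun π => π.isBrauerPair hA
  choose θ hθ1 hθ2 using fun π : PT M (resA α) => hw2 π.1.2 (hBP π)
  set c : PT M (resA α) → A → ℂ := fun π x =>
    if h : resA α x ∈ π.1.2.1 then θ π ⟨resA α x, h⟩ else 0 with hc
  have hmem : ∀ (π : PT M (resA α)) (x : A), x ∈ π.1.1 → resA α x ∈ π.1.2.1 := by
    intro π x hx
    rw [π.2.1]
    exact ⟨x, hx, rfl⟩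
  -- the value of `c` in terms of the weight
  have hcw : ∀ (π : PT M (resA α)) (x : A) (b : BrauerPairIdx G), x ∈ π.1.1 →
      b.1 = Subgroup.zpowers (resA α x) → IsPBlock M b.2 → LEIdx p M b π.1.2 →
      c π x = w (resA α x) b := by
    intro π x b hx hb1 hb2 hb3
    rw [hc]
    dsimp only
    rw [dif_pos (hmem π x hx)]
    exact (hθ2 π ⟨resA α x, hmem π x hx⟩ b hb1 hb2 hb3).symm
  have hexb : ∀ (π : PT M (resA α)) (x : A), x ∈ π.1.1 → ∃ b : BrauerPairIdx G,
      b.1 = Subgroup.zpowers (resA α x) ∧ IsPBlock M b.2 ∧ LEIdx p M b π.1.2 := by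
    intro π x hx
    exact exists_leIdx hM (hBP π) (by
      rw [Subgroup.zpowers_le]
      exact hmem π x hx)
  have key := (sys hM hA (resA α)).mem_closure (X := charSub B)
    (D := fun π => DD α β π.1.1 π.1.2) (fun g π => DD_smul g π)
    (exists_hD hM hA hB α β) c ?_ ?_ ?_
  · -- conclusion
    have h1 : ∀ F ∈ AddSubgroup.closure {F : A → B → ℂ | ∃ θ : A → ℂ,
        IsGeneralizedCharacter A θ ∧ ∃ x ∈ charSub B, F = fun z => θ z • x},
        IsGeneralizedCharacter (A × B) fun γ => F γ.1 γ.2 := by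
      intro F hF
      refine AddSubgroup.closure_induction
        (p := fun F _ => IsGeneralizedCharacter (A × B) fun γ => F γ.1 γ.2) ?_ ?_ ?_ ?_ hF
      · rintro F ⟨θ, hθ, x, hx, rfl⟩
        have h2 := isGeneralizedCharacter_comp_hom (MonoidHom.fst A B) hθ
        have h3 := isGeneralizedCharacter_comp_hom (MonoidHom.snd A B) (mem_charSub.1 hx)
        exact Cfsg.Agent.Characters.Brauer.isGeneralizedCharacter_mul h2 h3
      · exact Cfsg.Agent.Characters.Brauer.isGeneralizedCharacter_zero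
      · intro F F' _ _ h h'
        exact Cfsg.Agent.Characters.Brauer.isGeneralizedCharacter_add h h'
      · intro F _ h
        exact Cfsg.Agent.Characters.Brauer.isGeneralizedCharacter_neg h
    have h2 := h1 _ key
    have h3 : (fun γ : A × B => Theta p M w (α γ) (β γ)) = fun γ : A × B =>
        (∑ b : PT M (resA α), if (sys hM hA (resA α)).T b = Subgroup.zpowers γ.1 then
          c b γ.1 • DD α β b.1.1 b.1.2 else 0) γ.2 := by
      funext γ
      obtain ⟨z, σ⟩ := γ
      rw [Theta_eq hM hA hB α β w z σ, Finset.sum_apply]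
      refine Finset.sum_congr rfl fun π _ => ?_
      by_cases hπ : π.1.1 = Subgroup.zpowers z
      · rw [if_pos hπ, if_pos (show (sys hM hA (resA α)).T π = Subgroup.zpowers z from hπ)]
        have h4 : c π z = w (resA α z) π.1.2 := by
          refine hcw π z π.1.2 (by rw [hπ]; exact Subgroup.mem_zpowers z) ?_ π.2.2
            Relation.ReflTransGen.refl
          rw [π.2.1, hπ, MonoidHom.map_zpowers]
        rw [Pi.smul_apply, smul_eq_mul, h4]
        rfl
      · rw [if_neg hπ, if_neg (show ¬ (sys hM hA (resA α)).T π = Subgroup.zpowers z from hπ)]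
        rfl
    rw [h3]
    exact h2
  · -- generalized characters
    intro π
    let f : ((sys hM hA (resA α)).T π) →* π.1.2.1 :=
      { toFun := fun x => ⟨resA α x, hmem π x x.2⟩
        map_one' := Subtype.ext (map_one _)
        map_mul' := fun x y => Subtype.ext (map_mul (resA α) (x : A) (y : A)) }
    have h1 := isGeneralizedCharacter_comp_hom f (hθ1 π)
    have h2 : (fun x : (sys hM hA (resA α)).T π => c π x) = fun x => θ π (f x) := by
      funext x
      exact dif_pos (hmem π x x.2)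
    rw [h2]
    exact h1
  · -- restriction
    intro π π' hle x hx
    obtain ⟨b, hb1, hb2, hb3⟩ := hexb π x hx
    rw [hcw π x b hx hb1 hb2 hb3, hcw π' x b (hle.1 hx) hb1 hb2
      (Relation.ReflTransGen.trans hb3 hle.2)]
  · -- conjugation
    intro g π x hx
    obtain ⟨b, hb1, hb2, hb3⟩ := hexb π x hx
    have h1 : g * x * g⁻¹ ∈ (g • π).1.1 := by
      rw [smul_fst]
      exact ⟨x, hx, rfl⟩
    have h2 : resA α (g * x * g⁻¹) = resA α g * resA α x * (resA α g)⁻¹ := by
      rw [map_mul, map_mul, map_inv]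
    rw [hcw π x b hx hb1 hb2 hb3, hcw (g • π) (g * x * g⁻¹) (conjIdx (resA α g) b) h1 ?_
      (isPBlock_conjIdx hb2) ?_, h2, hw1 _ _ b hb1]
    · rw [conjIdx_fst, hb1, MonoidHom.map_zpowers, h2]
      rfl
    · rw [smul_snd]
      exact (leIdx_conjIdx_iff _).2 hb3

end main

end Cfsg.Agent.H651
end

-- part: H651/StarMain
section
/-!
# Integrality of the star construction (helper651)

* `isGeneralizedCharacter_Theta`: for a weight `w`, `Theta p M w` is a generalized character of `G × G`;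
* `isGeneralizedCharacter_starW`: for a weight `w` and `χ ∈ Irr(G)` (or any character), `starW p M w χ` is a
  generalized character of `G`;
* `isWeight_etaW`: for a maximal pair `a` and a stable generalized character `η` the function `etaW p M a η` is a
  weight;
* `star_isGeneralizedCharacter`: `η * χ` is a generalized character (Broué–Puig).
-/

set_option autoImplicit false
set_option linter.unusedSectionVars false
set_option linter.unusedVariables false

open Cfsg
open scoped ComplexConjugate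

namespace Cfsg.Agent.H651

open Cfsg.Agent.H649

universe u v w

/-! ### Nilpotent groups are products -/

theorem exists_prod_of_nilpotent {E : Type u} [Group E] [Finite E] [Group.IsNilpotent E] (p : ℕ)
    [hp : Fact p.Prime] : ∃ A B : Subgroup E, IsPGroup p A ∧ ¬ p ∣ Nat.card B ∧
      Nonempty (A × B ≃* E) := by
  let P : Sylow p E := default
  have hPn : (P : Subgroup E).Normal := inferInstance
  have hcop : Nat.Coprime (Nat.card (P : Subgroup E)) (P : Subgroup E).index := P.card_coprime_index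
  obtain ⟨B, hB⟩ := Subgroup.exists_right_complement'_of_coprime hcop
  have hcard : Nat.card B = (P : Subgroup E).index := by
    have h1 := hB.symm.index_eq_card
    exact h1.symm
  have hpB : ¬ p ∣ Nat.card B := by
    rw [hcard]
    exact P.not_dvd_index
  have hcomm : ∀ (x : (P : Subgroup E)) (y : B), Commute (x : E) (y : E) := by
    intro x y
    refine Cfsg.Agent.Lib.NilpotentCoprime.commute_of_coprime_orderOf ?_
    have h1 : orderOf (x : E) ∣ Nat.card (P : Subgroup E) := by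
      rw [Subgroup.orderOf_coe]
      exact orderOf_dvd_natCard x
    have h2 : orderOf (y : E) ∣ Nat.card B := by
      rw [Subgroup.orderOf_coe]
      exact orderOf_dvd_natCard y
    rw [hcard] at h2
    exact Nat.Coprime.of_dvd h1 h2 hcop
  refine ⟨P, B, P.2, hpB, ⟨MulEquiv.ofBijective
    (MonoidHom.noncommCoprod (P : Subgroup E).subtype B.subtype fun x y => hcomm x y) ?_⟩⟩
  exact hB

theorem isNilpotent_of_isElementary {E : Type u} [Group E] [Finite E] {q : ℕ} (hq : q.Prime)
    (h : IsElementary q E) : Group.IsNilpotent E := by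
  have : Fact q.Prime := ⟨hq⟩
  obtain ⟨x, hx, -, k, hk⟩ := h
  have hle : Subgroup.zpowers x ≤ Subgroup.center E := by
    rw [Subgroup.zpowers_le]
    exact hx
  have hn : (Subgroup.zpowers x).Normal := ⟨fun y hy g => by
    rw [Subgroup.mem_center_iff.1 (hle hy) g, mul_inv_cancel_right]
    exact hy⟩
  have hpg : IsPGroup q (E ⧸ Subgroup.zpowers x) := by
    refine IsPGroup.of_card (n := k) ?_
    rw [← hk]
    rfl
  have hnil : Group.IsNilpotent (E ⧸ Subgroup.zpowers x) := hpg.isNilpotent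
  exact Subgroup.isNilpotent_of_ker_le_center (QuotientGroup.mk' (Subgroup.zpowers x))
    (by rwa [QuotientGroup.ker_mk'])

variable {G : Type u} [Group G]

/-! ### The two-variable function -/

section theta

variable {p : ℕ} {M : Ideal AlgInt} [Fintype G]

theorem blkPairs_conj (x u : G) :
    blkPairs M (Subgroup.zpowers (x * u * x⁻¹)) =
      (conjIdx x) '' blkPairs M (Subgroup.zpowers u) := by
  have key : ∀ (x u : G) (b : BrauerPairIdx G), b ∈ blkPairs M (Subgroup.zpowers u) →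
      conjIdx x b ∈ blkPairs M (Subgroup.zpowers (x * u * x⁻¹)) := by
    rintro x u ⟨Q, f⟩ ⟨h1, h2⟩
    refine ⟨?_, ?_⟩
    · rw [conjIdx_fst, show (⟨Q, f⟩ : BrauerPairIdx G).1 = Subgroup.zpowers u from h1,
        MonoidHom.map_zpowers]
      rfl
    · rw [conjIdx_mk]
      exact (isPBlock_conjBlock_iff Q x f).2 h2
  ext b
  constructor
  · intro hb
    refine ⟨conjIdx x⁻¹ b, ?_, conjIdx_conjIdx_inv x b⟩
    have h1 := key x⁻¹ _ b hb
    have h2 : x⁻¹ * (x * u * x⁻¹) * x⁻¹⁻¹ = u := by group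
    rwa [h2] at h1
  · rintro ⟨b, hb, rfl⟩
    exact key x u b hb

theorem conjIdx_injective (x : G) : Function.Injective (conjIdx x : BrauerPairIdx G → _) := by
  intro a b h
  rw [← conjIdx_inv_conjIdx x a, ← conjIdx_inv_conjIdx x b, h]

theorem Theta_conj (hp : p.Prime) {w : G → BrauerPairIdx G → ℂ}
    (hw1 : ∀ (x u : G) (b : BrauerPairIdx G), b.1 = Subgroup.zpowers u →
      w (x * u * x⁻¹) (conjIdx x b) = w u b) (x y g h : G) :
    Theta p M w (x * g * x⁻¹) (y * h * y⁻¹) = Theta p M w g h := by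
  have : Fact p.Prime := ⟨hp⟩
  unfold Theta
  rw [pp_conj, blkPairs_conj, finsum_mem_image ((conjIdx_injective x).injOn)]
  refine finsum_mem_congr rfl fun b hb => ?_
  rw [hw1 x _ b hb.1]
  congr 1
  rw [finsum_eq_sum_of_fintype, finsum_eq_sum_of_fintype]
  refine (Fintype.sum_equiv ((Equiv.mulRight y⁻¹).trans (Equiv.mulLeft x)) _ _ fun a => ?_).symm
  change _ = cfE (conjIdx x b) (x * (a * y⁻¹) * (y * h * y⁻¹) * (x * (a * y⁻¹))⁻¹ *
    (x * g * x⁻¹)⁻¹)
  have h1 : x * (a * y⁻¹) * (y * h * y⁻¹) * (x * (a * y⁻¹))⁻¹ * (x * g * x⁻¹)⁻¹ =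
      x * (a * h * a⁻¹ * g⁻¹) * x⁻¹ := by group
  rw [h1, cfE_conjIdx]

theorem isGeneralizedCharacter_Theta [M.IsPrime] (hM : IsPModular p M)
    {w : G → BrauerPairIdx G → ℂ} (hw : IsWeight p M w) :
    IsGeneralizedCharacter (G × G) fun γ => Theta p M w γ.1 γ.2 := by
  classical
  have hp : p.Prime := hM.1
  have : Fact p.Prime := ⟨hp⟩
  refine Cfsg.Agent.Characters.Brauer.brauer_characterization _ ?_ ?_
  · intro g h
    exact Theta_conj hp hw.1 h.1 h.2 g.1 g.2
  · intro E q hq hE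
    have hnil := isNilpotent_of_isElementary hq hE
    obtain ⟨A, B, hA, hB, ⟨e⟩⟩ := exists_prod_of_nilpotent (E := E) p
    have : Fintype A := Fintype.ofFinite _
    let f : A × B →* G × G := E.subtype.comp e.toMonoidHom
    have h1 := isGeneralizedCharacter_Theta_comp hM hA hB ((MonoidHom.fst G G).comp f)
      ((MonoidHom.snd G G).comp f) hw
    have h2 := isGeneralizedCharacter_comp_hom e.symm.toMonoidHom h1
    have h3 : (fun x : E => Theta p M w (x : G × G).1 (x : G × G).2) = fun x : E =>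
        Theta p M w (((MonoidHom.fst G G).comp f) (e.symm x))
          (((MonoidHom.snd G G).comp f) (e.symm x)) := by
      funext x
      have h4 : f (e.symm x) = (x : G × G) := by
        change ((e (e.symm x) : E) : G × G) = x
        rw [e.apply_symm_apply]
      change Theta p M w (x : G × G).1 (x : G × G).2 =
        Theta p M w (f (e.symm x)).1 (f (e.symm x)).2
      rw [h4]
    rw [h3]
    exact h2

/-- The star construction from the two-variable function. -/
theorem sum_Theta_mul [Finite (BrauerPairIdx G)] (w : G → BrauerPairIdx G → ℂ) {χ : G → ℂ}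
    (hχ : IsClassFunction G χ) (g : G) :
    ∑ h : G, Theta p M w g h * χ h = (Nat.card G : ℂ) * starW p M w χ g := by
  classical
  unfold Theta starW
  have hfin : (blkPairs M (Subgroup.zpowers (pp p g))).Finite := Set.toFinite _
  rw [Finset.sum_congr rfl fun h _ => by rw [finsum_mem_eq_finite_toFinset_sum _ hfin]]
  rw [finsum_mem_eq_finite_toFinset_sum _ hfin, Finset.mul_sum]
  simp only [Finset.sum_mul]
  rw [Finset.sum_comm]
  refine Finset.sum_congr rfl fun b _ => ?_
  rw [chiE_eq_sum]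
  have h1 : ∀ h : G, (w (pp p g) b * ∑ᶠ a : G, cfE b (a * h * a⁻¹ * g⁻¹)) * χ h =
      ∑ a : G, w (pp p g) b * (cfE b (a * h * a⁻¹ * g⁻¹) * χ h) := by
    intro h
    rw [finsum_eq_sum_of_fintype, mul_assoc, Finset.sum_mul, Finset.mul_sum]
  rw [Finset.sum_congr rfl fun h _ => h1 h, Finset.sum_comm]
  have h2 : ∀ a : G, ∑ h : G, w (pp p g) b * (cfE b (a * h * a⁻¹ * g⁻¹) * χ h) =
      w (pp p g) b * ∑ k : G, cfE b k * χ (k * g) := by
    intro a
    rw [← Finset.mul_sum]
    congr 1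
    refine Fintype.sum_equiv ((MulAut.conj a).toEquiv.trans (Equiv.mulRight g⁻¹)) _ _ fun h => ?_
    change cfE b (a * h * a⁻¹ * g⁻¹) * χ h =
      cfE b (a * h * a⁻¹ * g⁻¹) * χ (a * h * a⁻¹ * g⁻¹ * g)
    rw [inv_mul_cancel_right, hχ h a]
  rw [Finset.sum_congr rfl fun a _ => h2 a, Finset.sum_const, Finset.card_univ,
    ← Nat.card_eq_fintype_card, nsmul_eq_mul]

theorem starW_isClassFunction (hp : p.Prime) {w : G → BrauerPairIdx G → ℂ}
    (hw1 : ∀ (x u : G) (b : BrauerPairIdx G), b.1 = Subgroup.zpowers u →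
      w (x * u * x⁻¹) (conjIdx x b) = w u b) {χ : G → ℂ} (hχ : IsClassFunction G χ) :
    IsClassFunction G (starW p M w χ) := by
  have : Fact p.Prime := ⟨hp⟩
  intro g x
  unfold starW
  rw [pp_conj, blkPairs_conj, finsum_mem_image ((conjIdx_injective x).injOn)]
  refine finsum_mem_congr rfl fun b hb => ?_
  rw [hw1 x _ b hb.1, chiE_conjIdx x b hχ]

theorem classInner_isInt {H : Type v} [Group H] [Fintype H] {χ ψ : H → ℂ}
    (hχ : IsGeneralizedCharacter H χ) (hψ : IsCharacter H ψ) :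
    ∃ n : ℤ, classInner χ ψ = n := by
  obtain ⟨α, β, hα, hβ, rfl⟩ := hχ
  obtain ⟨n, hn⟩ := Cfsg.Agent.Characters.Core.classInner_isNat hα hψ
  obtain ⟨m, hm⟩ := Cfsg.Agent.Characters.Core.classInner_isNat hβ hψ
  refine ⟨n - m, ?_⟩
  rw [Cfsg.Agent.Characters.Core.classInner_sub_left, hn, hm]
  push_cast
  rfl

/-- **Integrality** for abstract weights. -/
theorem isGeneralizedCharacter_starW [M.IsPrime] (hM : IsPModular p M)
    {w : G → BrauerPairIdx G → ℂ} (hw : IsWeight p M w) {χ : G → ℂ} (hχ : IsCharacter G χ) :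
    IsGeneralizedCharacter G (starW p M w χ) := by
  classical
  have hp : p.Prime := hM.1
  have hfinI : ∀ Q : Subgroup G, Finite (IrrCharacter (Subgroup.centralizer (Q : Set G))) :=
    fun Q => Cfsg.Agent.Characters.Core.finite_irr
  have hfinB : Finite (BrauerPairIdx G) := inferInstance
  have hχc := Cfsg.Agent.Characters.Core.isCharacter_isClassFunction hχ
  have hne : (Nat.card G : ℂ) ≠ 0 := Nat.cast_ne_zero.2 Nat.card_pos.ne'
  refine Cfsg.Agent.Characters.Brauer.isGeneralizedCharacter_of_int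
    (starW_isClassFunction hp hw.1 hχc) fun ψ hψ => ?_
  have hψc := Cfsg.Agent.Characters.Core.isIrr_isCharacter hψ
  have h1 : IsCharacter (G × G) (fun γ => ψ γ.1 * conj (χ γ.2)) := by
    have h2 := Cfsg.Agent.Characters.Core.isCharacter_comp (MonoidHom.fst G G) hψc
    have h3 := Cfsg.Agent.Characters.Core.isCharacter_comp (MonoidHom.snd G G)
      (Cfsg.Agent.Characters.Core.isCharacter_conj hχ)
    exact Cfsg.Agent.Characters.Core.isCharacter_mul h2 h3
  obtain ⟨n, hn⟩ := classInner_isInt (isGeneralizedCharacter_Theta hM hw) h1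
  refine ⟨n, ?_⟩
  rw [← hn, Cfsg.Agent.Characters.Core.classInner_def, Cfsg.Agent.Characters.Core.classInner_def,
    Nat.card_prod, Fintype.sum_prod_type]
  have h2 : ∀ g : G, ∑ h : G, Theta p M w g h * conj (ψ g * conj (χ h)) =
      (Nat.card G : ℂ) * (starW p M w χ g * conj (ψ g)) := by
    intro g
    have h3 : ∀ h : G, Theta p M w g h * conj (ψ g * conj (χ h)) =
        (Theta p M w g h * χ h) * conj (ψ g) := by
      intro h
      rw [map_mul, Complex.conj_conj]
      ring
    rw [Finset.sum_congr rfl fun h _ => h3 h, ← Finset.sum_mul, sum_Theta_mul w hχc]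
    ring
  rw [Finset.sum_congr rfl fun g _ => h2 g, ← Finset.mul_sum]
  push_cast
  field_simp

end theta

/-! ### The weight of a stable function -/

section weight

variable {p : ℕ} {M : Ideal AlgInt} [M.IsPrime] [Finite G]

/-- For a maximal pair `a` of the block `B`, `etaW p M a η` is a weight. -/
theorem isWeight_etaW (hM : IsPModular p M) {B : Set (IrrCharacter G)} {a : BrauerPairIdx G}
    (hmax : IsMaximalBrauerPair p M B a.1 a.2) {η : G → ℂ}
    (hη : IsGeneralizedCharacter a.1 (fun x => η x)) (hst : IsStable p M a η) :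
    IsWeight p M (etaW p M a η) := by
  refine ⟨fun x u b hb => etaW_conj hst x u hb, fun c hc => ?_⟩
  obtain ⟨Q, f⟩ := c
  obtain ⟨P, e⟩ := a
  by_cases hB : IsBrauerPairOf p M B Q f
  · -- conjugate below the maximal pair
    obtain ⟨x, hx⟩ := Cfsg.Agent.H644.exists_conj_subpairLE hM hmax hB
    have hx' : LEIdx p M (conjIdx x ⟨Q, f⟩) ⟨P, e⟩ := by
      rw [conjIdx_mk]
      exact hx
    have hmem : ∀ u : Q, x * u * x⁻¹ ∈ P := by
      intro u
      have h1 : (conjIdx x ⟨Q, f⟩).1 ≤ P := LEIdx.le hx'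
      exact h1 ⟨u, u.2, rfl⟩
    let F : Q →* P :=
      { toFun := fun u => ⟨x * u * x⁻¹, hmem u⟩
        map_one' := Subtype.ext (by simp)
        map_mul' := fun u v => Subtype.ext (by simp [mul_assoc]) }
    refine ⟨_, isGeneralizedCharacter_comp_hom F hη, fun u b hb hbl hle => ?_⟩
    have h1 : LEIdx p M (conjIdx x b) ⟨P, e⟩ :=
      Relation.ReflTransGen.trans ((leIdx_conjIdx_iff x).2 hle) hx'
    exact etaW_eq hst hb h1
  · -- other blocks
    refine ⟨0, Cfsg.Agent.Characters.Brauer.isGeneralizedCharacter_zero, fun u b hb hbl hle => ?_⟩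
    refine etaW_eq_zero ?_
    rintro ⟨x, hx⟩
    apply hB
    have h1 : IsBrauerPair p M P e := hmax.1.1
    have h2 : IsBrauerPairOf p M B P e := hmax.1
    obtain ⟨R, r⟩ := b
    have h3 : IsBrauerPairOf p M B (conjIdx x ⟨R, r⟩).1 (conjIdx x ⟨R, r⟩).2 :=
      (Cfsg.Agent.H644.isBrauerPairOf_iff_of_subpairLE hM hx).1 h2
    have h4 : IsBrauerPairOf p M B R r := by
      rw [conjIdx_mk] at h3
      exact (isBrauerPairOf_conj_iff B R x r).1 h3
    exact (Cfsg.Agent.H644.isBrauerPairOf_iff_of_subpairLE hM hle).2 h4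

end weight

/-- **Integrality of the star construction** (Broué–Puig). -/
theorem star_isGeneralizedCharacter [Fintype G] {p : ℕ} {M : Ideal AlgInt} (hM : IsPModular p M)
    {B : Set (IrrCharacter G)} {a : BrauerPairIdx G}
    (hmax : IsMaximalBrauerPair p M B a.1 a.2) {η : G → ℂ}
    (hη : IsGeneralizedCharacter a.1 (fun x => η x)) (hst : IsStable p M a η)
    {χ : G → ℂ} (hχ : IsCharacter G χ) : IsGeneralizedCharacter G (star p M a η χ) := by
  have : M.IsPrime := hM.2.1.isPrime
  exact isGeneralizedCharacter_starW hM (isWeight_etaW hM hmax hη hst) hχ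

end Cfsg.Agent.H651
end
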