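import Cfsg.Agent.H651.NilFus
set_option linter.all false

/-!
# Nilpotent blocks and conjugation of Brauer pairs (helper651)

Everything here is stated relative to the facts that are needed on uniqueness of subpairs, conjugacy
of maximal pairs and so on, which are passed as hypotheses.
-/

set_option autoImplicit false

open Cfsg

namespace Cfsg.Agent.H651

open Cfsg.Agent.H649

universe u

variable {G : Type u} [Group G] {p : ℕ} {M : Ideal AlgInt}

theorem conjIdx_pow_eq {x : G} {a : BrauerPairIdx G} (h : conjIdx x a = a) (n : ℕ) :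
    conjIdx (x ^ n) a = a := by
  induction n with
  | zero => rw [pow_zero, conjIdx_one]
  | succ n ih => rw [pow_succ, ← conjIdx_conjIdx, h, ih]

theorem conjIdx_inv_eq {x : G} {a : BrauerPairIdx G} (h : conjIdx x a = a) :
    conjIdx x⁻¹ a = a := by
  conv_lhs => rw [← h]
  rw [conjIdx_inv_conjIdx]

theorem conjIdx_mul_eq {x y : G} {a : BrauerPairIdx G} (hx : conjIdx x a = a)
    (hy : conjIdx y a = a) : conjIdx (x * y) a = a := by
  rw [← conjIdx_conjIdx, hy, hx]

/-- The stabilizer of a pair, as a subgroup. -/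
def idxStab (a : BrauerPairIdx G) : Subgroup G where
  carrier := {x | conjIdx x a = a}
  one_mem' := conjIdx_one a
  mul_mem' := fun hx hy => conjIdx_mul_eq hx hy
  inv_mem' := fun hx => conjIdx_inv_eq hx

theorem mem_idxStab {a : BrauerPairIdx G} {x : G} : x ∈ idxStab a ↔ conjIdx x a = a := Iff.rfl

/-- Reformulation of nilpotency with the stabilizer of the pair. -/
theorem isNilpotentBlock_iff [M.IsPrime] {B : Set (IrrCharacter G)} :
    IsNilpotentBlock p M B ↔ IsPBlock M B ∧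
      ∀ (Q : Subgroup G) (f : Set (IrrCharacter (Subgroup.centralizer (Q : Set G)))),
        IsBrauerPairOf p M B Q f → ∀ x : G, conjIdx x ⟨Q, f⟩ = ⟨Q, f⟩ → IsPRegular p x →
          x ∈ Subgroup.centralizer (Q : Set G) := by
  constructor
  · rintro ⟨hB, h⟩
    refine ⟨hB, fun Q f hQf x hx hreg => ?_⟩
    obtain ⟨h1, h2⟩ := (conjIdx_eq_iff hQf.1.2 x).1 hx
    exact h Q f hQf x h1 h2 hreg
  · rintro ⟨hB, h⟩
    refine ⟨hB, fun Q f hQf x hx hst hreg => ?_⟩
    exact h Q f hQf x ((conjIdx_eq_iff hQf.1.2 x).2 ⟨hx, hst⟩) hreg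

/-- The `p`-power `g ^ p ^ a` of an element of order `p ^ a * m` is `p`-regular. -/
theorem exists_pow_isPRegular [Finite G] (hp : p.Prime) (g : G) :
    ∃ a : ℕ, IsPRegular p (g ^ p ^ a) := by
  obtain ⟨a, m, hm, hg⟩ := Nat.exists_eq_pow_mul_and_not_dvd (orderOf_pos g).ne' p hp.ne_one
  refine ⟨a, ?_⟩
  rw [IsPRegular, orderOf_pow' g (pow_ne_zero _ hp.ne_zero), hg,
    Nat.gcd_eq_right (Dvd.intro _ rfl), Nat.mul_div_cancel_left _ (pow_pos hp.pos _)]
  exact hm

/-- If every subpair of `(P, e)` is unique and `B` is nilpotent, then automorphism groups in the block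
fusion system are `p`-groups. -/
theorem isPGroup_autGroup [Finite G] [Fact p.Prime] [M.IsPrime] {B : Set (IrrCharacter G)}
    {P : Subgroup G} {e : Set (IrrCharacter (Subgroup.centralizer (P : Set G)))}
    {F : FusionSystem P} (hF : IsBlockFusionSystemOn p M B P e F)
    (huniq : ∀ (Q : Subgroup G) (f f' : Set (IrrCharacter (Subgroup.centralizer (Q : Set G)))),
      SubpairLE p M Q f P e → SubpairLE p M Q f' P e → f = f')
    (hof : ∀ (Q : Subgroup G) (f : Set (IrrCharacter (Subgroup.centralizer (Q : Set G)))),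
      SubpairLE p M Q f P e → IsBrauerPairOf p M B Q f)
    (hnil : IsNilpotentBlock p M B) {Q : Subgroup G} (hQ : Q ≤ P) :
    IsPGroup p (F.autGroup Q) := by
  intro α
  have hα : Q.subtype.comp (α : MulAut Q).toMonoidHom ∈ F.Hom Q :=
    (Cfsg.Agent.H802.mem_autGroup_iff F hQ α).1 α.2
  obtain ⟨-, g, hg, -, f, hf1, hf2⟩ := (hF.2 Q _).1 hα
  have hg' : ∀ z : Q, (((α : MulAut Q) z : Q) : G) = g * z * g⁻¹ := hg
  have hmap : Q.map (MulAut.conj g).toMonoidHom = Q := by
    ext y
    constructor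
    · rintro ⟨z, hz, rfl⟩
      have h1 := hg' ⟨z, hz⟩
      change g * z * g⁻¹ ∈ Q
      rw [← h1]
      exact ((α : MulAut Q) ⟨z, hz⟩).2
    · intro hy
      refine ⟨((α : MulAut Q)⁻¹ ⟨y, hy⟩ : Q), ((α : MulAut Q)⁻¹ ⟨y, hy⟩ : Q).2, ?_⟩
      have h1 := hg' ((α : MulAut Q)⁻¹ ⟨y, hy⟩)
      rw [MulAut.apply_inv_self] at h1
      exact h1.symm
  have hfix : conjIdx g ⟨Q, f⟩ = ⟨Q, f⟩ := by
    have h1 : LEIdx p M (conjIdx g ⟨Q, f⟩) ⟨P, e⟩ := by
      rw [conjIdx_mk]
      exact hf2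
    have h2 : (conjIdx g ⟨Q, f⟩).1 = Q := hmap
    generalize conjIdx g ⟨Q, f⟩ = b at h1 h2
    obtain ⟨Q', f'⟩ := b
    have h3 : Q' = Q := h2
    subst h3
    rw [huniq _ f' f h1 hf1]
  obtain ⟨a, ha⟩ := exists_pow_isPRegular (p := p) Fact.out g
  have hc := (isNilpotentBlock_iff.1 hnil).2 Q f (hof Q f hf1) (g ^ p ^ a)
    (conjIdx_pow_eq hfix _) ha
  refine ⟨a, ?_⟩
  apply Subtype.ext
  apply MulEquiv.ext
  intro z
  apply Subtype.ext
  have hpow : ∀ n : ℕ, ∀ z : Q, ((((α : MulAut Q) ^ n) z : Q) : G) = g ^ n * z * (g ^ n)⁻¹ := by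
    intro n
    induction n with
    | zero => intro z; simp
    | succ n ih =>
      intro z
      rw [pow_succ', MulAut.mul_apply, hg', ih]
      rw [pow_succ']; group
  have h1 := hpow (p ^ a) z
  change ((((α : MulAut Q) ^ p ^ a) z : Q) : G) = z
  rw [h1]
  have h2 := Subgroup.mem_centralizer_iff.1 hc z z.2
  rw [← h2]
  group

/-- The block fusion system of a nilpotent block is inner. -/
theorem hom_eq_inner_of_nilpotent [Finite G] [Fact p.Prime] [M.IsPrime]
    {B : Set (IrrCharacter G)}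
    {P : Subgroup G} {e : Set (IrrCharacter (Subgroup.centralizer (P : Set G)))}
    {F : FusionSystem P} (hF : IsBlockFusionSystemOn p M B P e F) (hsat : F.IsSaturated p)
    (huniq : ∀ (Q : Subgroup G) (f f' : Set (IrrCharacter (Subgroup.centralizer (Q : Set G)))),
      SubpairLE p M Q f P e → SubpairLE p M Q f' P e → f = f')
    (hof : ∀ (Q : Subgroup G) (f : Set (IrrCharacter (Subgroup.centralizer (Q : Set G)))),
      SubpairLE p M Q f P e → IsBrauerPairOf p M B Q f)
    (hnil : IsNilpotentBlock p M B) (Q : Subgroup G) :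
    F.Hom Q = (innerFusionSystem P).Hom Q :=
  hom_eq_inner_of_isPGroup hF.1.1.1.1 hsat
    (fun _ hQ => isPGroup_autGroup hF huniq hof hnil hQ) Q

/-- If the block fusion system is inner then the block is nilpotent. -/
theorem nilpotent_of_hom_eq_inner [Finite G] [Fact p.Prime] [M.IsPrime]
    {B : Set (IrrCharacter G)}
    {P : Subgroup G} {e : Set (IrrCharacter (Subgroup.centralizer (P : Set G)))}
    {F : FusionSystem P} (hF : IsBlockFusionSystemOn p M B P e F)
    (hconj : ∀ (Q : Subgroup G) (f : Set (IrrCharacter (Subgroup.centralizer (Q : Set G)))),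
      IsBrauerPairOf p M B Q f → ∃ x : G, LEIdx p M (conjIdx x ⟨Q, f⟩) ⟨P, e⟩)
    (hinner : ∀ Q : Subgroup G, F.Hom Q = (innerFusionSystem P).Hom Q) :
    IsNilpotentBlock p M B := by
  rw [isNilpotentBlock_iff]
  refine ⟨hF.1.1.2.1, fun Q f hQf x hx hreg => ?_⟩
  obtain ⟨y, hy⟩ := hconj Q f hQf
  set a : BrauerPairIdx G := conjIdx y ⟨Q, f⟩ with ha
  set x' : G := y * x * y⁻¹ with hx'
  have hfix : conjIdx x' a = a := by
    rw [ha, conjIdx_conjIdx, hx']
    have h1 : y * x * y⁻¹ * y = y * x := by group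
    rw [h1, ← conjIdx_conjIdx, hx]
  have hreg' : ¬ p ∣ orderOf x' := by
    have h1 : orderOf x' = orderOf x := by
      have := (MulAut.conj y).orderOf_eq x
      rwa [MulAut.conj_apply] at this
    rw [h1]
    exact hreg
  have hle : a.1 ≤ P := LEIdx.le hy
  have hmapR : a.1.map (MulAut.conj x').toMonoidHom = a.1 := congrArg (fun b => b.1) hfix
  have hmem : conjHom a.1 x' ∈ F.Hom a.1 := by
    refine (hF.2 a.1 _).2 ⟨hle, x', fun u => rfl, hmapR.le.trans hle, a.2, hy, ?_⟩
    have h1 : LEIdx p M (conjIdx x' a) ⟨P, e⟩ := by rw [hfix]; exact hy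
    rw [← leIdx_iff, ← conjIdx_mk]
    exact h1
  rw [hinner] at hmem
  obtain ⟨-, u, hu, hux⟩ := hmem
  obtain ⟨k, hk⟩ := hF.1.1.1.1 ⟨u, hu⟩
  have hk' : u ^ p ^ k = 1 := by
    have := congrArg Subtype.val hk
    simpa using this
  have hcen := mem_centralizer_of_conj_eq (p := p) Fact.out hreg' k hk' hmapR.le
    (fun z hz => hux ⟨z, hz⟩)
  have h2 : a.1 = Q.map (MulAut.conj y).toMonoidHom := rfl
  rw [h2] at hcen
  exact (map_mem_centralizer_iff (MulAut.conj y) Q x).1 (by
    rw [MulAut.conj_apply]; exact hcen)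

end Cfsg.Agent.H651
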